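import Cfsg.Agent.LyRec.Index.StepDefs

/-! Generated by tools/dcoset/emit.py: steps are justified. -/

set_option Elab.async false
set_option maxRecDepth 100000

namespace Cfsg.Agent.LyRec.Index

open Cfsg.Agent.DCoset Cfsg.Agent.CosetCert

theorem steps_128 : allFrom okStep 32000 250 = true := by
  decide +kernel

theorem steps_129 : allFrom okStep 32250 250 = true := by
  decide +kernel

theorem steps_130 : allFrom okStep 32500 250 = true := by
  decide +kernel

theorem steps_131 : allFrom okStep 32750 250 = true := by
  decide +kernel

theorem steps_132 : allFrom okStep 33000 250 = true := by
  decide +kernel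

theorem steps_133 : allFrom okStep 33250 250 = true := by
  decide +kernel

theorem steps_134 : allFrom okStep 33500 250 = true := by
  decide +kernel

theorem steps_135 : allFrom okStep 33750 250 = true := by
  decide +kernel


end Cfsg.Agent.LyRec.Index
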