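import Cfsg.Agent.LyRec.Index.StepDefs

/-! Generated by tools/dcoset/emit.py: steps are justified. -/

set_option Elab.async false
set_option maxRecDepth 100000

namespace Cfsg.Agent.LyRec.Index

open Cfsg.Agent.DCoset Cfsg.Agent.CosetCert

theorem steps_176 : allFrom okStep 44000 250 = true := by
  decide +kernel

theorem steps_177 : allFrom okStep 44250 250 = true := by
  decide +kernel

theorem steps_178 : allFrom okStep 44500 250 = true := by
  decide +kernel

theorem steps_179 : allFrom okStep 44750 250 = true := by
  decide +kernel

theorem steps_180 : allFrom okStep 45000 250 = true := by
  decide +kernel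

theorem steps_181 : allFrom okStep 45250 250 = true := by
  decide +kernel

theorem steps_182 : allFrom okStep 45500 250 = true := by
  decide +kernel

theorem steps_183 : allFrom okStep 45750 250 = true := by
  decide +kernel


end Cfsg.Agent.LyRec.Index
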