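import Cfsg.Agent.LyRec.Index.CoverDefs

/-! Generated by tools/dcoset/emit.py: forests and transversal. -/

set_option Elab.async false
set_option maxRecDepth 100000

namespace Cfsg.Agent.LyRec.Index

open Cfsg.Agent.DCoset Cfsg.Agent.CosetCert

theorem point_1_0 : allFrom (Cover.checkPoint cover steps rules tab 1) 0 1000 = true := by
  decide +kernel

theorem point_1_1 : allFrom (Cover.checkPoint cover steps rules tab 1) 1000 1000 = true := by
  decide +kernel

theorem point_1_2 : allFrom (Cover.checkPoint cover steps rules tab 1) 2000 1000 = true := by
  decide +kernel

theorem point_1_3 : allFrom (Cover.checkPoint cover steps rules tab 1) 3000 1000 = true := by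
  decide +kernel

theorem point_1_4 : allFrom (Cover.checkPoint cover steps rules tab 1) 4000 1000 = true := by
  decide +kernel

theorem point_1_5 : allFrom (Cover.checkPoint cover steps rules tab 1) 5000 1000 = true := by
  decide +kernel

theorem point_1_6 : allFrom (Cover.checkPoint cover steps rules tab 1) 6000 1000 = true := by
  decide +kernel

theorem point_1_7 : allFrom (Cover.checkPoint cover steps rules tab 1) 7000 1000 = true := by
  decide +kernel

theorem point_1_8 : allFrom (Cover.checkPoint cover steps rules tab 1) 8000 1000 = true := by
  decide +kernel


end Cfsg.Agent.LyRec.Index
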