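import Cfsg.Agent.LyRec.Index.CoverDefs

/-! Generated by tools/dcoset/emit.py: forests and transversal. -/

set_option Elab.async false
set_option maxRecDepth 100000

namespace Cfsg.Agent.LyRec.Index

open Cfsg.Agent.DCoset Cfsg.Agent.CosetCert

theorem point_1_9 : allFrom (Cover.checkPoint cover steps rules tab 1) 9000 1000 = true := by
  decide +kernel

theorem point_1_10 : allFrom (Cover.checkPoint cover steps rules tab 1) 10000 1000 = true := by
  decide +kernel

theorem point_1_11 : allFrom (Cover.checkPoint cover steps rules tab 1) 11000 1000 = true := by
  decide +kernel

theorem point_1_12 : allFrom (Cover.checkPoint cover steps rules tab 1) 12000 1000 = true := by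
  decide +kernel

theorem point_1_13 : allFrom (Cover.checkPoint cover steps rules tab 1) 13000 1000 = true := by
  decide +kernel

theorem point_1_14 : allFrom (Cover.checkPoint cover steps rules tab 1) 14000 1000 = true := by
  decide +kernel

theorem point_1_15 : allFrom (Cover.checkPoint cover steps rules tab 1) 15000 1000 = true := by
  decide +kernel

theorem point_1_16 : allFrom (Cover.checkPoint cover steps rules tab 1) 16000 1000 = true := by
  decide +kernel

theorem point_1_17 : allFrom (Cover.checkPoint cover steps rules tab 1) 17000 1000 = true := by
  decide +kernel


end Cfsg.Agent.LyRec.Index
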