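import Cfsg.Agent.LyRec.Index.CoverDefs

/-! Generated by tools/dcoset/emit.py: forests and transversal. -/

set_option Elab.async false
set_option maxRecDepth 100000

namespace Cfsg.Agent.LyRec.Index

open Cfsg.Agent.DCoset Cfsg.Agent.CosetCert

theorem point_5_18 : allFrom (Cover.checkPoint cover steps rules tab 5) 18000 1000 = true := by
  decide +kernel

theorem point_5_19 : allFrom (Cover.checkPoint cover steps rules tab 5) 19000 1000 = true := by
  decide +kernel

theorem point_5_20 : allFrom (Cover.checkPoint cover steps rules tab 5) 20000 1000 = true := by
  decide +kernel

theorem point_5_21 : allFrom (Cover.checkPoint cover steps rules tab 5) 21000 1000 = true := by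
  decide +kernel

theorem point_5_22 : allFrom (Cover.checkPoint cover steps rules tab 5) 22000 1000 = true := by
  decide +kernel

theorem point_5_23 : allFrom (Cover.checkPoint cover steps rules tab 5) 23000 1000 = true := by
  decide +kernel

theorem point_5_24 : allFrom (Cover.checkPoint cover steps rules tab 5) 24000 1000 = true := by
  decide +kernel

theorem point_5_25 : allFrom (Cover.checkPoint cover steps rules tab 5) 25000 1000 = true := by
  decide +kernel

theorem point_5_26 : allFrom (Cover.checkPoint cover steps rules tab 5) 26000 1000 = true := by
  decide +kernel


end Cfsg.Agent.LyRec.Index
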