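import Cfsg.Agent.LyRec.Index.CoverDefs

/-! Generated by tools/dcoset/emit.py: forests and transversal. -/

set_option Elab.async false
set_option maxRecDepth 100000

namespace Cfsg.Agent.LyRec.Index

open Cfsg.Agent.DCoset Cfsg.Agent.CosetCert

theorem tr_all_0 : allFrom (Cover.checkTr cover tab) 0 350 = true := by
  decide +kernel

theorem tr_all_1 : allFrom (Cover.checkTr cover tab) 350 350 = true := by
  decide +kernel

theorem tr_all_2 : allFrom (Cover.checkTr cover tab) 700 350 = true := by
  decide +kernel

theorem tr_all_3 : allFrom (Cover.checkTr cover tab) 1050 350 = true := by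
  decide +kernel

theorem tr_all_4 : allFrom (Cover.checkTr cover tab) 1400 350 = true := by
  decide +kernel

theorem tr_all_5 : allFrom (Cover.checkTr cover tab) 1750 350 = true := by
  decide +kernel

theorem tr_all_6 : allFrom (Cover.checkTr cover tab) 2100 350 = true := by
  decide +kernel

theorem tr_all_7 : allFrom (Cover.checkTr cover tab) 2450 350 = true := by
  decide +kernel

theorem tr_all_8 : allFrom (Cover.checkTr cover tab) 2800 350 = true := by
  decide +kernel


end Cfsg.Agent.LyRec.Index
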