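import Cfsg.Agent.LyRec.Index.CoverDefs

/-! Generated by tools/dcoset/emit.py: forests and transversal. -/

set_option Elab.async false
set_option maxRecDepth 100000

namespace Cfsg.Agent.LyRec.Index

open Cfsg.Agent.DCoset Cfsg.Agent.CosetCert

theorem tr_all_9 : allFrom (Cover.checkTr cover tab) 3150 350 = true := by
  decide +kernel

theorem tr_all_10 : allFrom (Cover.checkTr cover tab) 3500 350 = true := by
  decide +kernel

theorem tr_all_11 : allFrom (Cover.checkTr cover tab) 3850 350 = true := by
  decide +kernel

theorem tr_all_12 : allFrom (Cover.checkTr cover tab) 4200 350 = true := by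
  decide +kernel

theorem tr_all_13 : allFrom (Cover.checkTr cover tab) 4550 350 = true := by
  decide +kernel

theorem tr_all_14 : allFrom (Cover.checkTr cover tab) 4900 350 = true := by
  decide +kernel

theorem tr_all_15 : allFrom (Cover.checkTr cover tab) 5250 350 = true := by
  decide +kernel

theorem tr_all_16 : allFrom (Cover.checkTr cover tab) 5600 350 = true := by
  decide +kernel

theorem tr_all_17 : allFrom (Cover.checkTr cover tab) 5950 350 = true := by
  decide +kernel


end Cfsg.Agent.LyRec.Index
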