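import Cfsg.Agent.LyRec.Index.CoverDefs

/-! Generated by tools/dcoset/emit.py: forests and transversal. -/

set_option Elab.async false
set_option maxRecDepth 100000

namespace Cfsg.Agent.LyRec.Index

open Cfsg.Agent.DCoset Cfsg.Agent.CosetCert

theorem tr_all_90 : allFrom (Cover.checkTr cover tab) 31500 350 = true := by
  decide +kernel

theorem tr_all_91 : allFrom (Cover.checkTr cover tab) 31850 350 = true := by
  decide +kernel

theorem tr_all_92 : allFrom (Cover.checkTr cover tab) 32200 350 = true := by
  decide +kernel

theorem tr_all_93 : allFrom (Cover.checkTr cover tab) 32550 350 = true := by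
  decide +kernel

theorem tr_all_94 : allFrom (Cover.checkTr cover tab) 32900 350 = true := by
  decide +kernel

theorem tr_all_95 : allFrom (Cover.checkTr cover tab) 33250 350 = true := by
  decide +kernel

theorem tr_all_96 : allFrom (Cover.checkTr cover tab) 33600 350 = true := by
  decide +kernel

theorem tr_all_97 : allFrom (Cover.checkTr cover tab) 33950 350 = true := by
  decide +kernel

theorem tr_all_98 : allFrom (Cover.checkTr cover tab) 34300 350 = true := by
  decide +kernel


end Cfsg.Agent.LyRec.Index
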