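import Cfsg.Agent.LyRec.Index.CoverDefs

/-! Generated by tools/dcoset/emit.py: forests and transversal. -/

set_option Elab.async false
set_option maxRecDepth 100000

namespace Cfsg.Agent.LyRec.Index

open Cfsg.Agent.DCoset Cfsg.Agent.CosetCert

theorem tr_all_18 : allFrom (Cover.checkTr cover tab) 6300 350 = true := by
  decide +kernel

theorem tr_all_19 : allFrom (Cover.checkTr cover tab) 6650 350 = true := by
  decide +kernel

theorem tr_all_20 : allFrom (Cover.checkTr cover tab) 7000 350 = true := by
  decide +kernel

theorem tr_all_21 : allFrom (Cover.checkTr cover tab) 7350 350 = true := by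
  decide +kernel

theorem tr_all_22 : allFrom (Cover.checkTr cover tab) 7700 350 = true := by
  decide +kernel

theorem tr_all_23 : allFrom (Cover.checkTr cover tab) 8050 350 = true := by
  decide +kernel

theorem tr_all_24 : allFrom (Cover.checkTr cover tab) 8400 350 = true := by
  decide +kernel

theorem tr_all_25 : allFrom (Cover.checkTr cover tab) 8750 350 = true := by
  decide +kernel

theorem tr_all_26 : allFrom (Cover.checkTr cover tab) 9100 350 = true := by
  decide +kernel


end Cfsg.Agent.LyRec.Index
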