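import Cfsg.Agent.LyRec.Index.CoverDefs

/-! Generated by tools/dcoset/emit.py: forests and transversal. -/

set_option Elab.async false
set_option maxRecDepth 100000

namespace Cfsg.Agent.LyRec.Index

open Cfsg.Agent.DCoset Cfsg.Agent.CosetCert

theorem tr_all_27 : allFrom (Cover.checkTr cover tab) 9450 350 = true := by
  decide +kernel

theorem tr_all_28 : allFrom (Cover.checkTr cover tab) 9800 350 = true := by
  decide +kernel

theorem tr_all_29 : allFrom (Cover.checkTr cover tab) 10150 350 = true := by
  decide +kernel

theorem tr_all_30 : allFrom (Cover.checkTr cover tab) 10500 350 = true := by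
  decide +kernel

theorem tr_all_31 : allFrom (Cover.checkTr cover tab) 10850 350 = true := by
  decide +kernel

theorem tr_all_32 : allFrom (Cover.checkTr cover tab) 11200 350 = true := by
  decide +kernel

theorem tr_all_33 : allFrom (Cover.checkTr cover tab) 11550 350 = true := by
  decide +kernel

theorem tr_all_34 : allFrom (Cover.checkTr cover tab) 11900 350 = true := by
  decide +kernel

theorem tr_all_35 : allFrom (Cover.checkTr cover tab) 12250 350 = true := by
  decide +kernel


end Cfsg.Agent.LyRec.Index
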