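import Cfsg.Agent.LyRec.Index.CoverDefs

/-! Generated by tools/dcoset/emit.py: forests and transversal. -/

set_option Elab.async false
set_option maxRecDepth 100000

namespace Cfsg.Agent.LyRec.Index

open Cfsg.Agent.DCoset Cfsg.Agent.CosetCert

theorem tr_all_36 : allFrom (Cover.checkTr cover tab) 12600 350 = true := by
  decide +kernel

theorem tr_all_37 : allFrom (Cover.checkTr cover tab) 12950 350 = true := by
  decide +kernel

theorem tr_all_38 : allFrom (Cover.checkTr cover tab) 13300 350 = true := by
  decide +kernel

theorem tr_all_39 : allFrom (Cover.checkTr cover tab) 13650 350 = true := by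
  decide +kernel

theorem tr_all_40 : allFrom (Cover.checkTr cover tab) 14000 350 = true := by
  decide +kernel

theorem tr_all_41 : allFrom (Cover.checkTr cover tab) 14350 350 = true := by
  decide +kernel

theorem tr_all_42 : allFrom (Cover.checkTr cover tab) 14700 350 = true := by
  decide +kernel

theorem tr_all_43 : allFrom (Cover.checkTr cover tab) 15050 350 = true := by
  decide +kernel

theorem tr_all_44 : allFrom (Cover.checkTr cover tab) 15400 350 = true := by
  decide +kernel


end Cfsg.Agent.LyRec.Index
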