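import Cfsg.Agent.LyRec.Index.CoverDefs

/-! Generated by tools/dcoset/emit.py: forests and transversal. -/

set_option Elab.async false
set_option maxRecDepth 100000

namespace Cfsg.Agent.LyRec.Index

open Cfsg.Agent.DCoset Cfsg.Agent.CosetCert

theorem tr_all_45 : allFrom (Cover.checkTr cover tab) 15750 350 = true := by
  decide +kernel

theorem tr_all_46 : allFrom (Cover.checkTr cover tab) 16100 350 = true := by
  decide +kernel

theorem tr_all_47 : allFrom (Cover.checkTr cover tab) 16450 350 = true := by
  decide +kernel

theorem tr_all_48 : allFrom (Cover.checkTr cover tab) 16800 350 = true := by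
  decide +kernel

theorem tr_all_49 : allFrom (Cover.checkTr cover tab) 17150 350 = true := by
  decide +kernel

theorem tr_all_50 : allFrom (Cover.checkTr cover tab) 17500 350 = true := by
  decide +kernel

theorem tr_all_51 : allFrom (Cover.checkTr cover tab) 17850 350 = true := by
  decide +kernel

theorem tr_all_52 : allFrom (Cover.checkTr cover tab) 18200 350 = true := by
  decide +kernel

theorem tr_all_53 : allFrom (Cover.checkTr cover tab) 18550 350 = true := by
  decide +kernel


end Cfsg.Agent.LyRec.Index
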