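import Cfsg.Agent.LyRec.Index.CoverDefs

/-! Generated by tools/dcoset/emit.py: forests and transversal. -/

set_option Elab.async false
set_option maxRecDepth 100000

namespace Cfsg.Agent.LyRec.Index

open Cfsg.Agent.DCoset Cfsg.Agent.CosetCert

theorem tr_all_63 : allFrom (Cover.checkTr cover tab) 22050 350 = true := by
  decide +kernel

theorem tr_all_64 : allFrom (Cover.checkTr cover tab) 22400 350 = true := by
  decide +kernel

theorem tr_all_65 : allFrom (Cover.checkTr cover tab) 22750 350 = true := by
  decide +kernel

theorem tr_all_66 : allFrom (Cover.checkTr cover tab) 23100 350 = true := by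
  decide +kernel

theorem tr_all_67 : allFrom (Cover.checkTr cover tab) 23450 350 = true := by
  decide +kernel

theorem tr_all_68 : allFrom (Cover.checkTr cover tab) 23800 350 = true := by
  decide +kernel

theorem tr_all_69 : allFrom (Cover.checkTr cover tab) 24150 350 = true := by
  decide +kernel

theorem tr_all_70 : allFrom (Cover.checkTr cover tab) 24500 350 = true := by
  decide +kernel

theorem tr_all_71 : allFrom (Cover.checkTr cover tab) 24850 350 = true := by
  decide +kernel


end Cfsg.Agent.LyRec.Index
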