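import Cfsg.Agent.LyRec.Index.CoverDefs

/-! Generated by tools/dcoset/emit.py: forests and transversal. -/

set_option Elab.async false
set_option maxRecDepth 100000

namespace Cfsg.Agent.LyRec.Index

open Cfsg.Agent.DCoset Cfsg.Agent.CosetCert

theorem tr_all_72 : allFrom (Cover.checkTr cover tab) 25200 350 = true := by
  decide +kernel

theorem tr_all_73 : allFrom (Cover.checkTr cover tab) 25550 350 = true := by
  decide +kernel

theorem tr_all_74 : allFrom (Cover.checkTr cover tab) 25900 350 = true := by
  decide +kernel

theorem tr_all_75 : allFrom (Cover.checkTr cover tab) 26250 350 = true := by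
  decide +kernel

theorem tr_all_76 : allFrom (Cover.checkTr cover tab) 26600 350 = true := by
  decide +kernel

theorem tr_all_77 : allFrom (Cover.checkTr cover tab) 26950 350 = true := by
  decide +kernel

theorem tr_all_78 : allFrom (Cover.checkTr cover tab) 27300 350 = true := by
  decide +kernel

theorem tr_all_79 : allFrom (Cover.checkTr cover tab) 27650 350 = true := by
  decide +kernel

theorem tr_all_80 : allFrom (Cover.checkTr cover tab) 28000 350 = true := by
  decide +kernel


end Cfsg.Agent.LyRec.Index
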