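import Cfsg.Agent.LyRec.Index.CoverDefs

/-! Generated by tools/dcoset/emit.py: forests and transversal. -/

set_option Elab.async false
set_option maxRecDepth 100000

namespace Cfsg.Agent.LyRec.Index

open Cfsg.Agent.DCoset Cfsg.Agent.CosetCert

theorem tr_all_81 : allFrom (Cover.checkTr cover tab) 28350 350 = true := by
  decide +kernel

theorem tr_all_82 : allFrom (Cover.checkTr cover tab) 28700 350 = true := by
  decide +kernel

theorem tr_all_83 : allFrom (Cover.checkTr cover tab) 29050 350 = true := by
  decide +kernel

theorem tr_all_84 : allFrom (Cover.checkTr cover tab) 29400 350 = true := by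
  decide +kernel

theorem tr_all_85 : allFrom (Cover.checkTr cover tab) 29750 350 = true := by
  decide +kernel

theorem tr_all_86 : allFrom (Cover.checkTr cover tab) 30100 350 = true := by
  decide +kernel

theorem tr_all_87 : allFrom (Cover.checkTr cover tab) 30450 350 = true := by
  decide +kernel

theorem tr_all_88 : allFrom (Cover.checkTr cover tab) 30800 350 = true := by
  decide +kernel

theorem tr_all_89 : allFrom (Cover.checkTr cover tab) 31150 350 = true := by
  decide +kernel


end Cfsg.Agent.LyRec.Index
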