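import Cfsg.Agent.DCoset.Join
import Cfsg.Agent.LyRec.Index.CheckSteps0
import Cfsg.Agent.LyRec.Index.CheckSteps1
import Cfsg.Agent.LyRec.Index.CheckSteps2
import Cfsg.Agent.LyRec.Index.CheckSteps3
import Cfsg.Agent.LyRec.Index.CheckSteps4
import Cfsg.Agent.LyRec.Index.CheckSteps5
import Cfsg.Agent.LyRec.Index.CheckSteps6
import Cfsg.Agent.LyRec.Index.CheckSteps7
import Cfsg.Agent.LyRec.Index.CheckSteps8
import Cfsg.Agent.LyRec.Index.CheckSteps9
import Cfsg.Agent.LyRec.Index.CheckSteps10
import Cfsg.Agent.LyRec.Index.CheckSteps11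
import Cfsg.Agent.LyRec.Index.CheckSteps12
import Cfsg.Agent.LyRec.Index.CheckSteps13
import Cfsg.Agent.LyRec.Index.CheckSteps14
import Cfsg.Agent.LyRec.Index.CheckSteps15
import Cfsg.Agent.LyRec.Index.CheckSteps16
import Cfsg.Agent.LyRec.Index.CheckSteps17
import Cfsg.Agent.LyRec.Index.CheckSteps18
import Cfsg.Agent.LyRec.Index.CheckSteps19
import Cfsg.Agent.LyRec.Index.CheckSteps20
import Cfsg.Agent.LyRec.Index.CheckSteps21
import Cfsg.Agent.LyRec.Index.CheckSteps22
import Cfsg.Agent.LyRec.Index.CheckSteps23
import Cfsg.Agent.LyRec.Index.CheckSteps24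
import Cfsg.Agent.LyRec.Index.CheckSteps25
import Cfsg.Agent.LyRec.Index.CheckSteps26
import Cfsg.Agent.LyRec.Index.CheckSteps27
import Cfsg.Agent.LyRec.Index.CheckSteps28
import Cfsg.Agent.LyRec.Index.CheckCover
import Cfsg.Agent.LyRec.Index.Check_tr_all_f0
import Cfsg.Agent.LyRec.Index.Check_tr_all_f1
import Cfsg.Agent.LyRec.Index.Check_tr_all_f2
import Cfsg.Agent.LyRec.Index.Check_tr_all_f3
import Cfsg.Agent.LyRec.Index.Check_tr_all_f4
import Cfsg.Agent.LyRec.Index.Check_tr_all_f5
import Cfsg.Agent.LyRec.Index.Check_tr_all_f6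
import Cfsg.Agent.LyRec.Index.Check_tr_all_f7
import Cfsg.Agent.LyRec.Index.Check_tr_all_f8
import Cfsg.Agent.LyRec.Index.Check_tr_all_f9
import Cfsg.Agent.LyRec.Index.Check_tr_all_f10
import Cfsg.Agent.LyRec.Index.Check_point_0_f0
import Cfsg.Agent.LyRec.Index.Check_point_0_f1
import Cfsg.Agent.LyRec.Index.Check_point_0_f2
import Cfsg.Agent.LyRec.Index.Check_point_0_f3
import Cfsg.Agent.LyRec.Index.Check_point_1_f0
import Cfsg.Agent.LyRec.Index.Check_point_1_f1
import Cfsg.Agent.LyRec.Index.Check_point_1_f2
import Cfsg.Agent.LyRec.Index.Check_point_1_f3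
import Cfsg.Agent.LyRec.Index.Check_point_2_f0
import Cfsg.Agent.LyRec.Index.Check_point_2_f1
import Cfsg.Agent.LyRec.Index.Check_point_2_f2
import Cfsg.Agent.LyRec.Index.Check_point_2_f3
import Cfsg.Agent.LyRec.Index.Check_point_3_f0
import Cfsg.Agent.LyRec.Index.Check_point_3_f1
import Cfsg.Agent.LyRec.Index.Check_point_3_f2
import Cfsg.Agent.LyRec.Index.Check_point_3_f3
import Cfsg.Agent.LyRec.Index.Check_point_4_f0
import Cfsg.Agent.LyRec.Index.Check_point_4_f1
import Cfsg.Agent.LyRec.Index.Check_point_4_f2
import Cfsg.Agent.LyRec.Index.Check_point_4_f3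
import Cfsg.Agent.LyRec.Index.Check_point_5_f0
import Cfsg.Agent.LyRec.Index.Check_point_5_f1
import Cfsg.Agent.LyRec.Index.Check_point_5_f2
import Cfsg.Agent.LyRec.Index.Check_point_5_f3
import Cfsg.Agent.LyRec.Index.Check_point_6_f0
import Cfsg.Agent.LyRec.Index.Check_point_6_f1
import Cfsg.Agent.LyRec.Index.Check_point_6_f2
import Cfsg.Agent.LyRec.Index.Check_point_6_f3
import Cfsg.Agent.LyRec.Index.Check_point_7_f0
import Cfsg.Agent.LyRec.Index.Check_point_7_f1
import Cfsg.Agent.LyRec.Index.Check_point_7_f2
import Cfsg.Agent.LyRec.Index.Check_point_7_f3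

/-! Generated by tools/dcoset/emit.py: assembled certificate. -/

set_option Elab.async false
set_option maxRecDepth 100000

namespace Cfsg.Agent.LyRec.Index

open Cfsg.Agent.DCoset Cfsg.Agent.CosetCert

theorem steps_ok : ∀ s, s < steps.len → okStep s = true := by
  intro s hs
  have h : allFrom okStep 0 57873 = true :=
    (allFrom_join 57750 123 57873 rfl (allFrom_join 57500 250 57750 rfl (allFrom_join 57250 250 57500 rfl (allFrom_join 57000 250 57250 rfl (allFrom_join 56750 250 57000 rfl (allFrom_join 56500 250 56750 rfl (allFrom_join 56250 250 56500 rfl (allFrom_join 56000 250 56250 rfl (allFrom_join 55750 250 56000 rfl (allFrom_join 55500 250 55750 rfl (allFrom_join 55250 250 55500 rfl (allFrom_join 55000 250 55250 rfl (allFrom_join 54750 250 55000 rfl (allFrom_join 54500 250 54750 rfl (allFrom_join 54250 250 54500 rfl (allFrom_join 54000 250 54250 rfl (allFrom_join 53750 250 54000 rfl (allFrom_join 53500 250 53750 rfl (allFrom_join 53250 250 53500 rfl (allFrom_join 53000 250 53250 rfl (allFrom_join 52750 250 53000 rfl (allFrom_join 52500 250 52750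 rfl (allFrom_join 52250 250 52500 rfl (allFrom_join 52000 250 52250 rfl (allFrom_join 51750 250 52000 rfl (allFrom_join 51500 250 51750 rfl (allFrom_join 51250 250 51500 rfl (allFrom_join 51000 250 51250 rfl (allFrom_join 50750 250 51000 rfl (allFrom_join 50500 250 50750 rfl (allFrom_join 50250 250 50500 rfl (allFrom_join 50000 250 50250 rfl (allFrom_join 49750 250 50000 rfl (allFrom_join 49500 250 49750 rfl (allFrom_join 49250 250 49500 rfl (allFrom_join 49000 250 49250 rfl (allFrom_join 48750 250 49000 rfl (allFrom_join 48500 250 48750 rfl (allFrom_join 48250 250 48500 rfl (allFrom_join 48000 250 48250 rfl (allFrom_join 47750 250 48000 rfl (allFrom_join 47500 250 47750 rfl (allFrom_join 47250 250 47500 rfl (allFrom_join 47000 250 47250 rfl (allFrom_join 46750 250 47000 rfl (allFrom_join 46500 250 46750 rfl (allFrom_join 46250 250 46500 rfl (allFrom_join 46000 250 46250 rfl (allFrom_join 45750 250 46000 rfl (allFrom_join 45500 250 45750 rfl (allFrom_join 45250 250 45500 rfl (allFrom_join 45000 250 45250 rfl (allFrom_join 44750 250 45000 rfl (allFrom_join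 44500 250 44750 rfl (allFrom_join 44250 250 44500 rfl (allFrom_join 44000 250 44250 rfl (allFrom_join 43750 250 44000 rfl (allFrom_join 43500 250 43750 rfl (allFrom_join 43250 250 43500 rfl (allFrom_join 43000 250 43250 rfl (allFrom_join 42750 250 43000 rfl (allFrom_join 42500 250 42750 rfl (allFrom_join 42250 250 42500 rfl (allFrom_join 42000 250 42250 rfl (allFrom_join 41750 250 42000 rfl (allFrom_join 41500 250 41750 rfl (allFrom_join 41250 250 41500 rfl (allFrom_join 41000 250 41250 rfl (allFrom_join 40750 250 41000 rfl (allFrom_join 40500 250 40750 rfl (allFrom_join 40250 250 40500 rfl (allFrom_join 40000 250 40250 rfl (allFrom_join 39750 250 40000 rfl (allFrom_join 39500 250 39750 rfl (allFrom_join 39250 250 39500 rfl (allFrom_join 39000 250 39250 rfl (allFrom_join 38750 250 39000 rfl (allFrom_join 38500 250 38750 rfl (allFrom_join 38250 250 38500 rfl (allFrom_join 38000 250 38250 rfl (allFrom_join 37750 250 38000 rfl (allFrom_join 37500 250 37750 rfl (allFrom_join 37250 250 37500 rfl (allFrom_join 37000 250 37250 rfl (allFrom_join 36750 250 37000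 rfl (allFrom_join 36500 250 36750 rfl (allFrom_join 36250 250 36500 rfl (allFrom_join 36000 250 36250 rfl (allFrom_join 35750 250 36000 rfl (allFrom_join 35500 250 35750 rfl (allFrom_join 35250 250 35500 rfl (allFrom_join 35000 250 35250 rfl (allFrom_join 34750 250 35000 rfl (allFrom_join 34500 250 34750 rfl (allFrom_join 34250 250 34500 rfl (allFrom_join 34000 250 34250 rfl (allFrom_join 33750 250 34000 rfl (allFrom_join 33500 250 33750 rfl (allFrom_join 33250 250 33500 rfl (allFrom_join 33000 250 33250 rfl (allFrom_join 32750 250 33000 rfl (allFrom_join 32500 250 32750 rfl (allFrom_join 32250 250 32500 rfl (allFrom_join 32000 250 32250 rfl (allFrom_join 31750 250 32000 rfl (allFrom_join 31500 250 31750 rfl (allFrom_join 31250 250 31500 rfl (allFrom_join 31000 250 31250 rfl (allFrom_join 30750 250 31000 rfl (allFrom_join 30500 250 30750 rfl (allFrom_join 30250 250 30500 rfl (allFrom_join 30000 250 30250 rfl (allFrom_join 29750 250 30000 rfl (allFrom_join 29500 250 29750 rfl (allFrom_join 29250 250 29500 rfl (allFrom_join 29000 250 29250 rfl (allFrom_join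 28750 250 29000 rfl (allFrom_join 28500 250 28750 rfl (allFrom_join 28250 250 28500 rfl (allFrom_join 28000 250 28250 rfl (allFrom_join 27750 250 28000 rfl (allFrom_join 27500 250 27750 rfl (allFrom_join 27250 250 27500 rfl (allFrom_join 27000 250 27250 rfl (allFrom_join 26750 250 27000 rfl (allFrom_join 26500 250 26750 rfl (allFrom_join 26250 250 26500 rfl (allFrom_join 26000 250 26250 rfl (allFrom_join 25750 250 26000 rfl (allFrom_join 25500 250 25750 rfl (allFrom_join 25250 250 25500 rfl (allFrom_join 25000 250 25250 rfl (allFrom_join 24750 250 25000 rfl (allFrom_join 24500 250 24750 rfl (allFrom_join 24250 250 24500 rfl (allFrom_join 24000 250 24250 rfl (allFrom_join 23750 250 24000 rfl (allFrom_join 23500 250 23750 rfl (allFrom_join 23250 250 23500 rfl (allFrom_join 23000 250 23250 rfl (allFrom_join 22750 250 23000 rfl (allFrom_join 22500 250 22750 rfl (allFrom_join 22250 250 22500 rfl (allFrom_join 22000 250 22250 rfl (allFrom_join 21750 250 22000 rfl (allFrom_join 21500 250 21750 rfl (allFrom_join 21250 250 21500 rfl (allFrom_join 21000 250 21250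 rfl (allFrom_join 20750 250 21000 rfl (allFrom_join 20500 250 20750 rfl (allFrom_join 20250 250 20500 rfl (allFrom_join 20000 250 20250 rfl (allFrom_join 19750 250 20000 rfl (allFrom_join 19500 250 19750 rfl (allFrom_join 19250 250 19500 rfl (allFrom_join 19000 250 19250 rfl (allFrom_join 18750 250 19000 rfl (allFrom_join 18500 250 18750 rfl (allFrom_join 18250 250 18500 rfl (allFrom_join 18000 250 18250 rfl (allFrom_join 17750 250 18000 rfl (allFrom_join 17500 250 17750 rfl (allFrom_join 17250 250 17500 rfl (allFrom_join 17000 250 17250 rfl (allFrom_join 16750 250 17000 rfl (allFrom_join 16500 250 16750 rfl (allFrom_join 16250 250 16500 rfl (allFrom_join 16000 250 16250 rfl (allFrom_join 15750 250 16000 rfl (allFrom_join 15500 250 15750 rfl (allFrom_join 15250 250 15500 rfl (allFrom_join 15000 250 15250 rfl (allFrom_join 14750 250 15000 rfl (allFrom_join 14500 250 14750 rfl (allFrom_join 14250 250 14500 rfl (allFrom_join 14000 250 14250 rfl (allFrom_join 13750 250 14000 rfl (allFrom_join 13500 250 13750 rfl (allFrom_join 13250 250 13500 rfl (allFrom_join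 13000 250 13250 rfl (allFrom_join 12750 250 13000 rfl (allFrom_join 12500 250 12750 rfl (allFrom_join 12250 250 12500 rfl (allFrom_join 12000 250 12250 rfl (allFrom_join 11750 250 12000 rfl (allFrom_join 11500 250 11750 rfl (allFrom_join 11250 250 11500 rfl (allFrom_join 11000 250 11250 rfl (allFrom_join 10750 250 11000 rfl (allFrom_join 10500 250 10750 rfl (allFrom_join 10250 250 10500 rfl (allFrom_join 10000 250 10250 rfl (allFrom_join 9750 250 10000 rfl (allFrom_join 9500 250 9750 rfl (allFrom_join 9250 250 9500 rfl (allFrom_join 9000 250 9250 rfl (allFrom_join 8750 250 9000 rfl (allFrom_join 8500 250 8750 rfl (allFrom_join 8250 250 8500 rfl (allFrom_join 8000 250 8250 rfl (allFrom_join 7750 250 8000 rfl (allFrom_join 7500 250 7750 rfl (allFrom_join 7250 250 7500 rfl (allFrom_join 7000 250 7250 rfl (allFrom_join 6750 250 7000 rfl (allFrom_join 6500 250 6750 rfl (allFrom_join 6250 250 6500 rfl (allFrom_join 6000 250 6250 rfl (allFrom_join 5750 250 6000 rfl (allFrom_join 5500 250 5750 rfl (allFrom_join 5250 250 5500 rfl (allFrom_join 5000 250 5250 rfl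 (allFrom_join 4750 250 5000 rfl (allFrom_join 4500 250 4750 rfl (allFrom_join 4250 250 4500 rfl (allFrom_join 4000 250 4250 rfl (allFrom_join 3750 250 4000 rfl (allFrom_join 3500 250 3750 rfl (allFrom_join 3250 250 3500 rfl (allFrom_join 3000 250 3250 rfl (allFrom_join 2750 250 3000 rfl (allFrom_join 2500 250 2750 rfl (allFrom_join 2250 250 2500 rfl (allFrom_join 2000 250 2250 rfl (allFrom_join 1750 250 2000 rfl (allFrom_join 1500 250 1750 rfl (allFrom_join 1250 250 1500 rfl (allFrom_join 1000 250 1250 rfl (allFrom_join 750 250 1000 rfl (allFrom_join 500 250 750 rfl (allFrom_join 250 250 500 rfl steps_0 steps_1) steps_2) steps_3) steps_4) steps_5) steps_6) steps_7) steps_8) steps_9) steps_10) steps_11) steps_12) steps_13) steps_14) steps_15) steps_16) steps_17) steps_18) steps_19) steps_20) steps_21) steps_22) steps_23) steps_24) steps_25) steps_26) steps_27) steps_28) steps_29) steps_30) steps_31) steps_32) steps_33) steps_34) steps_35) steps_36) steps_37) steps_38) steps_39) steps_40) steps_41) steps_42) steps_43) steps_44) steps_45) steps_46) steps_47)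 steps_48) steps_49) steps_50) steps_51) steps_52) steps_53) steps_54) steps_55) steps_56) steps_57) steps_58) steps_59) steps_60) steps_61) steps_62) steps_63) steps_64) steps_65) steps_66) steps_67) steps_68) steps_69) steps_70) steps_71) steps_72) steps_73) steps_74) steps_75) steps_76) steps_77) steps_78) steps_79) steps_80) steps_81) steps_82) steps_83) steps_84) steps_85) steps_86) steps_87) steps_88) steps_89) steps_90) steps_91) steps_92) steps_93) steps_94) steps_95) steps_96) steps_97) steps_98) steps_99) steps_100) steps_101) steps_102) steps_103) steps_104) steps_105) steps_106) steps_107) steps_108) steps_109) steps_110) steps_111) steps_112) steps_113) steps_114) steps_115) steps_116) steps_117) steps_118) steps_119) steps_120) steps_121) steps_122) steps_123) steps_124) steps_125) steps_126) steps_127) steps_128) steps_129) steps_130) steps_131) steps_132) steps_133) steps_134) steps_135) steps_136) steps_137) steps_138) steps_139) steps_140) steps_141) steps_142) steps_143) steps_144) steps_145) steps_146) steps_147) steps_148) steps_149)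 steps_150) steps_151) steps_152) steps_153) steps_154) steps_155) steps_156) steps_157) steps_158) steps_159) steps_160) steps_161) steps_162) steps_163) steps_164) steps_165) steps_166) steps_167) steps_168) steps_169) steps_170) steps_171) steps_172) steps_173) steps_174) steps_175) steps_176) steps_177) steps_178) steps_179) steps_180) steps_181) steps_182) steps_183) steps_184) steps_185) steps_186) steps_187) steps_188) steps_189) steps_190) steps_191) steps_192) steps_193) steps_194) steps_195) steps_196) steps_197) steps_198) steps_199) steps_200) steps_201) steps_202) steps_203) steps_204) steps_205) steps_206) steps_207) steps_208) steps_209) steps_210) steps_211) steps_212) steps_213) steps_214) steps_215) steps_216) steps_217) steps_218) steps_219) steps_220) steps_221) steps_222) steps_223) steps_224) steps_225) steps_226) steps_227) steps_228) steps_229) steps_230) steps_231)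
  exact allFrom_all h hs

theorem tr_all : allFrom (Cover.checkTr cover tab) 0 34650 = true :=
  (allFrom_join 34300 350 34650 rfl (allFrom_join 33950 350 34300 rfl (allFrom_join 33600 350 33950 rfl (allFrom_join 33250 350 33600 rfl (allFrom_join 32900 350 33250 rfl (allFrom_join 32550 350 32900 rfl (allFrom_join 32200 350 32550 rfl (allFrom_join 31850 350 32200 rfl (allFrom_join 31500 350 31850 rfl (allFrom_join 31150 350 31500 rfl (allFrom_join 30800 350 31150 rfl (allFrom_join 30450 350 30800 rfl (allFrom_join 30100 350 30450 rfl (allFrom_join 29750 350 30100 rfl (allFrom_join 29400 350 29750 rfl (allFrom_join 29050 350 29400 rfl (allFrom_join 28700 350 29050 rfl (allFrom_join 28350 350 28700 rfl (allFrom_join 28000 350 28350 rfl (allFrom_join 27650 350 28000 rfl (allFrom_join 27300 350 27650 rfl (allFrom_join 26950 350 27300 rfl (allFrom_join 26600 350 26950 rfl (allFrom_join 26250 350 26600 rfl (allFrom_join 25900 350 26250 rfl (allFrom_join 25550 350 25900 rfl (allFrom_join 25200 350 25550 rfl (allFrom_join 24850 350 25200 rfl (allFrom_join 24500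 350 24850 rfl (allFrom_join 24150 350 24500 rfl (allFrom_join 23800 350 24150 rfl (allFrom_join 23450 350 23800 rfl (allFrom_join 23100 350 23450 rfl (allFrom_join 22750 350 23100 rfl (allFrom_join 22400 350 22750 rfl (allFrom_join 22050 350 22400 rfl (allFrom_join 21700 350 22050 rfl (allFrom_join 21350 350 21700 rfl (allFrom_join 21000 350 21350 rfl (allFrom_join 20650 350 21000 rfl (allFrom_join 20300 350 20650 rfl (allFrom_join 19950 350 20300 rfl (allFrom_join 19600 350 19950 rfl (allFrom_join 19250 350 19600 rfl (allFrom_join 18900 350 19250 rfl (allFrom_join 18550 350 18900 rfl (allFrom_join 18200 350 18550 rfl (allFrom_join 17850 350 18200 rfl (allFrom_join 17500 350 17850 rfl (allFrom_join 17150 350 17500 rfl (allFrom_join 16800 350 17150 rfl (allFrom_join 16450 350 16800 rfl (allFrom_join 16100 350 16450 rfl (allFrom_join 15750 350 16100 rfl (allFrom_join 15400 350 15750 rfl (allFrom_join 15050 350 15400 rfl (allFrom_join 14700 350 15050 rfl (allFrom_join 14350 350 14700 rfl (allFrom_join 14000 350 14350 rfl (allFrom_join 13650 350 14000 rfl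 (allFrom_join 13300 350 13650 rfl (allFrom_join 12950 350 13300 rfl (allFrom_join 12600 350 12950 rfl (allFrom_join 12250 350 12600 rfl (allFrom_join 11900 350 12250 rfl (allFrom_join 11550 350 11900 rfl (allFrom_join 11200 350 11550 rfl (allFrom_join 10850 350 11200 rfl (allFrom_join 10500 350 10850 rfl (allFrom_join 10150 350 10500 rfl (allFrom_join 9800 350 10150 rfl (allFrom_join 9450 350 9800 rfl (allFrom_join 9100 350 9450 rfl (allFrom_join 8750 350 9100 rfl (allFrom_join 8400 350 8750 rfl (allFrom_join 8050 350 8400 rfl (allFrom_join 7700 350 8050 rfl (allFrom_join 7350 350 7700 rfl (allFrom_join 7000 350 7350 rfl (allFrom_join 6650 350 7000 rfl (allFrom_join 6300 350 6650 rfl (allFrom_join 5950 350 6300 rfl (allFrom_join 5600 350 5950 rfl (allFrom_join 5250 350 5600 rfl (allFrom_join 4900 350 5250 rfl (allFrom_join 4550 350 4900 rfl (allFrom_join 4200 350 4550 rfl (allFrom_join 3850 350 4200 rfl (allFrom_join 3500 350 3850 rfl (allFrom_join 3150 350 3500 rfl (allFrom_join 2800 350 3150 rfl (allFrom_join 2450 350 2800 rfl (allFrom_join 2100 350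 2450 rfl (allFrom_join 1750 350 2100 rfl (allFrom_join 1400 350 1750 rfl (allFrom_join 1050 350 1400 rfl (allFrom_join 700 350 1050 rfl (allFrom_join 350 350 700 rfl tr_all_0 tr_all_1) tr_all_2) tr_all_3) tr_all_4) tr_all_5) tr_all_6) tr_all_7) tr_all_8) tr_all_9) tr_all_10) tr_all_11) tr_all_12) tr_all_13) tr_all_14) tr_all_15) tr_all_16) tr_all_17) tr_all_18) tr_all_19) tr_all_20) tr_all_21) tr_all_22) tr_all_23) tr_all_24) tr_all_25) tr_all_26) tr_all_27) tr_all_28) tr_all_29) tr_all_30) tr_all_31) tr_all_32) tr_all_33) tr_all_34) tr_all_35) tr_all_36) tr_all_37) tr_all_38) tr_all_39) tr_all_40) tr_all_41) tr_all_42) tr_all_43) tr_all_44) tr_all_45) tr_all_46) tr_all_47) tr_all_48) tr_all_49) tr_all_50) tr_all_51) tr_all_52) tr_all_53) tr_all_54) tr_all_55) tr_all_56) tr_all_57) tr_all_58) tr_all_59) tr_all_60) tr_all_61) tr_all_62) tr_all_63) tr_all_64) tr_all_65) tr_all_66) tr_all_67) tr_all_68) tr_all_69) tr_all_70) tr_all_71) tr_all_72) tr_all_73) tr_all_74) tr_all_75) tr_all_76) tr_all_77) tr_all_78) tr_all_79) tr_all_80) tr_all_81) tr_all_82)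 tr_all_83) tr_all_84) tr_all_85) tr_all_86) tr_all_87) tr_all_88) tr_all_89) tr_all_90) tr_all_91) tr_all_92) tr_all_93) tr_all_94) tr_all_95) tr_all_96) tr_all_97) tr_all_98)

theorem point_0 : allFrom (Cover.checkPoint cover steps rules tab 0) 0 34650 = true :=
  (allFrom_join 34000 650 34650 rfl (allFrom_join 33000 1000 34000 rfl (allFrom_join 32000 1000 33000 rfl (allFrom_join 31000 1000 32000 rfl (allFrom_join 30000 1000 31000 rfl (allFrom_join 29000 1000 30000 rfl (allFrom_join 28000 1000 29000 rfl (allFrom_join 27000 1000 28000 rfl (allFrom_join 26000 1000 27000 rfl (allFrom_join 25000 1000 26000 rfl (allFrom_join 24000 1000 25000 rfl (allFrom_join 23000 1000 24000 rfl (allFrom_join 22000 1000 23000 rfl (allFrom_join 21000 1000 22000 rfl (allFrom_join 20000 1000 21000 rfl (allFrom_join 19000 1000 20000 rfl (allFrom_join 18000 1000 19000 rfl (allFrom_join 17000 1000 18000 rfl (allFrom_join 16000 1000 17000 rfl (allFrom_join 15000 1000 16000 rfl (allFrom_join 14000 1000 15000 rfl (allFrom_join 13000 1000 14000 rfl (allFrom_join 12000 1000 13000 rfl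 (allFrom_join 11000 1000 12000 rfl (allFrom_join 10000 1000 11000 rfl (allFrom_join 9000 1000 10000 rfl (allFrom_join 8000 1000 9000 rfl (allFrom_join 7000 1000 8000 rfl (allFrom_join 6000 1000 7000 rfl (allFrom_join 5000 1000 6000 rfl (allFrom_join 4000 1000 5000 rfl (allFrom_join 3000 1000 4000 rfl (allFrom_join 2000 1000 3000 rfl (allFrom_join 1000 1000 2000 rfl point_0_0 point_0_1) point_0_2) point_0_3) point_0_4) point_0_5) point_0_6) point_0_7) point_0_8) point_0_9) point_0_10) point_0_11) point_0_12) point_0_13) point_0_14) point_0_15) point_0_16) point_0_17) point_0_18) point_0_19) point_0_20) point_0_21) point_0_22) point_0_23) point_0_24) point_0_25) point_0_26) point_0_27) point_0_28) point_0_29) point_0_30) point_0_31) point_0_32) point_0_33) point_0_34)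

theorem point_1 : allFrom (Cover.checkPoint cover steps rules tab 1) 0 34650 = true :=
  (allFrom_join 34000 650 34650 rfl (allFrom_join 33000 1000 34000 rfl (allFrom_join 32000 1000 33000 rfl (allFrom_join 31000 1000 32000 rfl (allFrom_join 30000 1000 31000 rfl (allFrom_join 29000 1000 30000 rfl (allFrom_join 28000 1000 29000 rfl (allFrom_join 27000 1000 28000 rfl (allFrom_join 26000 1000 27000 rfl (allFrom_join 25000 1000 26000 rfl (allFrom_join 24000 1000 25000 rfl (allFrom_join 23000 1000 24000 rfl (allFrom_join 22000 1000 23000 rfl (allFrom_join 21000 1000 22000 rfl (allFrom_join 20000 1000 21000 rfl (allFrom_join 19000 1000 20000 rfl (allFrom_join 18000 1000 19000 rfl (allFrom_join 17000 1000 18000 rfl (allFrom_join 16000 1000 17000 rfl (allFrom_join 15000 1000 16000 rfl (allFrom_join 14000 1000 15000 rfl (allFrom_join 13000 1000 14000 rfl (allFrom_join 12000 1000 13000 rfl (allFrom_join 11000 1000 12000 rfl (allFrom_join 10000 1000 11000 rfl (allFrom_join 9000 1000 10000 rfl (allFrom_join 8000 1000 9000 rfl (allFrom_join 7000 1000 8000 rfl (allFrom_join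 6000 1000 7000 rfl (allFrom_join 5000 1000 6000 rfl (allFrom_join 4000 1000 5000 rfl (allFrom_join 3000 1000 4000 rfl (allFrom_join 2000 1000 3000 rfl (allFrom_join 1000 1000 2000 rfl point_1_0 point_1_1) point_1_2) point_1_3) point_1_4) point_1_5) point_1_6) point_1_7) point_1_8) point_1_9) point_1_10) point_1_11) point_1_12) point_1_13) point_1_14) point_1_15) point_1_16) point_1_17) point_1_18) point_1_19) point_1_20) point_1_21) point_1_22) point_1_23) point_1_24) point_1_25) point_1_26) point_1_27) point_1_28) point_1_29) point_1_30) point_1_31) point_1_32) point_1_33) point_1_34)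

theorem point_2 : allFrom (Cover.checkPoint cover steps rules tab 2) 0 34650 = true :=
  (allFrom_join 34000 650 34650 rfl (allFrom_join 33000 1000 34000 rfl (allFrom_join 32000 1000 33000 rfl (allFrom_join 31000 1000 32000 rfl (allFrom_join 30000 1000 31000 rfl (allFrom_join 29000 1000 30000 rfl (allFrom_join 28000 1000 29000 rfl (allFrom_join 27000 1000 28000 rfl (allFrom_join 26000 1000 27000 rfl (allFrom_join 25000 1000 26000 rfl (allFrom_join 24000 1000 25000 rfl (allFrom_join 23000 1000 24000 rfl (allFrom_join 22000 1000 23000 rfl (allFrom_join 21000 1000 22000 rfl (allFrom_join 20000 1000 21000 rfl (allFrom_join 19000 1000 20000 rfl (allFrom_join 18000 1000 19000 rfl (allFrom_join 17000 1000 18000 rfl (allFrom_join 16000 1000 17000 rfl (allFrom_join 15000 1000 16000 rfl (allFrom_join 14000 1000 15000 rfl (allFrom_join 13000 1000 14000 rfl (allFrom_join 12000 1000 13000 rfl (allFrom_join 11000 1000 12000 rfl (allFrom_join 10000 1000 11000 rfl (allFrom_join 9000 1000 10000 rfl (allFrom_join 8000 1000 9000 rfl (allFrom_join 7000 1000 8000 rfl (allFrom_join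 6000 1000 7000 rfl (allFrom_join 5000 1000 6000 rfl (allFrom_join 4000 1000 5000 rfl (allFrom_join 3000 1000 4000 rfl (allFrom_join 2000 1000 3000 rfl (allFrom_join 1000 1000 2000 rfl point_2_0 point_2_1) point_2_2) point_2_3) point_2_4) point_2_5) point_2_6) point_2_7) point_2_8) point_2_9) point_2_10) point_2_11) point_2_12) point_2_13) point_2_14) point_2_15) point_2_16) point_2_17) point_2_18) point_2_19) point_2_20) point_2_21) point_2_22) point_2_23) point_2_24) point_2_25) point_2_26) point_2_27) point_2_28) point_2_29) point_2_30) point_2_31) point_2_32) point_2_33) point_2_34)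

theorem point_3 : allFrom (Cover.checkPoint cover steps rules tab 3) 0 34650 = true :=
  (allFrom_join 34000 650 34650 rfl (allFrom_join 33000 1000 34000 rfl (allFrom_join 32000 1000 33000 rfl (allFrom_join 31000 1000 32000 rfl (allFrom_join 30000 1000 31000 rfl (allFrom_join 29000 1000 30000 rfl (allFrom_join 28000 1000 29000 rfl (allFrom_join 27000 1000 28000 rfl (allFrom_join 26000 1000 27000 rfl (allFrom_join 25000 1000 26000 rfl (allFrom_join 24000 1000 25000 rfl (allFrom_join 23000 1000 24000 rfl (allFrom_join 22000 1000 23000 rfl (allFrom_join 21000 1000 22000 rfl (allFrom_join 20000 1000 21000 rfl (allFrom_join 19000 1000 20000 rfl (allFrom_join 18000 1000 19000 rfl (allFrom_join 17000 1000 18000 rfl (allFrom_join 16000 1000 17000 rfl (allFrom_join 15000 1000 16000 rfl (allFrom_join 14000 1000 15000 rfl (allFrom_join 13000 1000 14000 rfl (allFrom_join 12000 1000 13000 rfl (allFrom_join 11000 1000 12000 rfl (allFrom_join 10000 1000 11000 rfl (allFrom_join 9000 1000 10000 rfl (allFrom_join 8000 1000 9000 rfl (allFrom_join 7000 1000 8000 rfl (allFrom_join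 6000 1000 7000 rfl (allFrom_join 5000 1000 6000 rfl (allFrom_join 4000 1000 5000 rfl (allFrom_join 3000 1000 4000 rfl (allFrom_join 2000 1000 3000 rfl (allFrom_join 1000 1000 2000 rfl point_3_0 point_3_1) point_3_2) point_3_3) point_3_4) point_3_5) point_3_6) point_3_7) point_3_8) point_3_9) point_3_10) point_3_11) point_3_12) point_3_13) point_3_14) point_3_15) point_3_16) point_3_17) point_3_18) point_3_19) point_3_20) point_3_21) point_3_22) point_3_23) point_3_24) point_3_25) point_3_26) point_3_27) point_3_28) point_3_29) point_3_30) point_3_31) point_3_32) point_3_33) point_3_34)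

theorem point_4 : allFrom (Cover.checkPoint cover steps rules tab 4) 0 34650 = true :=
  (allFrom_join 34000 650 34650 rfl (allFrom_join 33000 1000 34000 rfl (allFrom_join 32000 1000 33000 rfl (allFrom_join 31000 1000 32000 rfl (allFrom_join 30000 1000 31000 rfl (allFrom_join 29000 1000 30000 rfl (allFrom_join 28000 1000 29000 rfl (allFrom_join 27000 1000 28000 rfl (allFrom_join 26000 1000 27000 rfl (allFrom_join 25000 1000 26000 rfl (allFrom_join 24000 1000 25000 rfl (allFrom_join 23000 1000 24000 rfl (allFrom_join 22000 1000 23000 rfl (allFrom_join 21000 1000 22000 rfl (allFrom_join 20000 1000 21000 rfl (allFrom_join 19000 1000 20000 rfl (allFrom_join 18000 1000 19000 rfl (allFrom_join 17000 1000 18000 rfl (allFrom_join 16000 1000 17000 rfl (allFrom_join 15000 1000 16000 rfl (allFrom_join 14000 1000 15000 rfl (allFrom_join 13000 1000 14000 rfl (allFrom_join 12000 1000 13000 rfl (allFrom_join 11000 1000 12000 rfl (allFrom_join 10000 1000 11000 rfl (allFrom_join 9000 1000 10000 rfl (allFrom_join 8000 1000 9000 rfl (allFrom_join 7000 1000 8000 rfl (allFrom_join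 6000 1000 7000 rfl (allFrom_join 5000 1000 6000 rfl (allFrom_join 4000 1000 5000 rfl (allFrom_join 3000 1000 4000 rfl (allFrom_join 2000 1000 3000 rfl (allFrom_join 1000 1000 2000 rfl point_4_0 point_4_1) point_4_2) point_4_3) point_4_4) point_4_5) point_4_6) point_4_7) point_4_8) point_4_9) point_4_10) point_4_11) point_4_12) point_4_13) point_4_14) point_4_15) point_4_16) point_4_17) point_4_18) point_4_19) point_4_20) point_4_21) point_4_22) point_4_23) point_4_24) point_4_25) point_4_26) point_4_27) point_4_28) point_4_29) point_4_30) point_4_31) point_4_32) point_4_33) point_4_34)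

theorem point_5 : allFrom (Cover.checkPoint cover steps rules tab 5) 0 34650 = true :=
  (allFrom_join 34000 650 34650 rfl (allFrom_join 33000 1000 34000 rfl (allFrom_join 32000 1000 33000 rfl (allFrom_join 31000 1000 32000 rfl (allFrom_join 30000 1000 31000 rfl (allFrom_join 29000 1000 30000 rfl (allFrom_join 28000 1000 29000 rfl (allFrom_join 27000 1000 28000 rfl (allFrom_join 26000 1000 27000 rfl (allFrom_join 25000 1000 26000 rfl (allFrom_join 24000 1000 25000 rfl (allFrom_join 23000 1000 24000 rfl (allFrom_join 22000 1000 23000 rfl (allFrom_join 21000 1000 22000 rfl (allFrom_join 20000 1000 21000 rfl (allFrom_join 19000 1000 20000 rfl (allFrom_join 18000 1000 19000 rfl (allFrom_join 17000 1000 18000 rfl (allFrom_join 16000 1000 17000 rfl (allFrom_join 15000 1000 16000 rfl (allFrom_join 14000 1000 15000 rfl (allFrom_join 13000 1000 14000 rfl (allFrom_join 12000 1000 13000 rfl (allFrom_join 11000 1000 12000 rfl (allFrom_join 10000 1000 11000 rfl (allFrom_join 9000 1000 10000 rfl (allFrom_join 8000 1000 9000 rfl (allFrom_join 7000 1000 8000 rfl (allFrom_join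 6000 1000 7000 rfl (allFrom_join 5000 1000 6000 rfl (allFrom_join 4000 1000 5000 rfl (allFrom_join 3000 1000 4000 rfl (allFrom_join 2000 1000 3000 rfl (allFrom_join 1000 1000 2000 rfl point_5_0 point_5_1) point_5_2) point_5_3) point_5_4) point_5_5) point_5_6) point_5_7) point_5_8) point_5_9) point_5_10) point_5_11) point_5_12) point_5_13) point_5_14) point_5_15) point_5_16) point_5_17) point_5_18) point_5_19) point_5_20) point_5_21) point_5_22) point_5_23) point_5_24) point_5_25) point_5_26) point_5_27) point_5_28) point_5_29) point_5_30) point_5_31) point_5_32) point_5_33) point_5_34)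

theorem point_6 : allFrom (Cover.checkPoint cover steps rules tab 6) 0 34650 = true :=
  (allFrom_join 34000 650 34650 rfl (allFrom_join 33000 1000 34000 rfl (allFrom_join 32000 1000 33000 rfl (allFrom_join 31000 1000 32000 rfl (allFrom_join 30000 1000 31000 rfl (allFrom_join 29000 1000 30000 rfl (allFrom_join 28000 1000 29000 rfl (allFrom_join 27000 1000 28000 rfl (allFrom_join 26000 1000 27000 rfl (allFrom_join 25000 1000 26000 rfl (allFrom_join 24000 1000 25000 rfl (allFrom_join 23000 1000 24000 rfl (allFrom_join 22000 1000 23000 rfl (allFrom_join 21000 1000 22000 rfl (allFrom_join 20000 1000 21000 rfl (allFrom_join 19000 1000 20000 rfl (allFrom_join 18000 1000 19000 rfl (allFrom_join 17000 1000 18000 rfl (allFrom_join 16000 1000 17000 rfl (allFrom_join 15000 1000 16000 rfl (allFrom_join 14000 1000 15000 rfl (allFrom_join 13000 1000 14000 rfl (allFrom_join 12000 1000 13000 rfl (allFrom_join 11000 1000 12000 rfl (allFrom_join 10000 1000 11000 rfl (allFrom_join 9000 1000 10000 rfl (allFrom_join 8000 1000 9000 rfl (allFrom_join 7000 1000 8000 rfl (allFrom_join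 6000 1000 7000 rfl (allFrom_join 5000 1000 6000 rfl (allFrom_join 4000 1000 5000 rfl (allFrom_join 3000 1000 4000 rfl (allFrom_join 2000 1000 3000 rfl (allFrom_join 1000 1000 2000 rfl point_6_0 point_6_1) point_6_2) point_6_3) point_6_4) point_6_5) point_6_6) point_6_7) point_6_8) point_6_9) point_6_10) point_6_11) point_6_12) point_6_13) point_6_14) point_6_15) point_6_16) point_6_17) point_6_18) point_6_19) point_6_20) point_6_21) point_6_22) point_6_23) point_6_24) point_6_25) point_6_26) point_6_27) point_6_28) point_6_29) point_6_30) point_6_31) point_6_32) point_6_33) point_6_34)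

theorem point_7 : allFrom (Cover.checkPoint cover steps rules tab 7) 0 34650 = true :=
  (allFrom_join 34000 650 34650 rfl (allFrom_join 33000 1000 34000 rfl (allFrom_join 32000 1000 33000 rfl (allFrom_join 31000 1000 32000 rfl (allFrom_join 30000 1000 31000 rfl (allFrom_join 29000 1000 30000 rfl (allFrom_join 28000 1000 29000 rfl (allFrom_join 27000 1000 28000 rfl (allFrom_join 26000 1000 27000 rfl (allFrom_join 25000 1000 26000 rfl (allFrom_join 24000 1000 25000 rfl (allFrom_join 23000 1000 24000 rfl (allFrom_join 22000 1000 23000 rfl (allFrom_join 21000 1000 22000 rfl (allFrom_join 20000 1000 21000 rfl (allFrom_join 19000 1000 20000 rfl (allFrom_join 18000 1000 19000 rfl (allFrom_join 17000 1000 18000 rfl (allFrom_join 16000 1000 17000 rfl (allFrom_join 15000 1000 16000 rfl (allFrom_join 14000 1000 15000 rfl (allFrom_join 13000 1000 14000 rfl (allFrom_join 12000 1000 13000 rfl (allFrom_join 11000 1000 12000 rfl (allFrom_join 10000 1000 11000 rfl (allFrom_join 9000 1000 10000 rfl (allFrom_join 8000 1000 9000 rfl (allFrom_join 7000 1000 8000 rfl (allFrom_join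 6000 1000 7000 rfl (allFrom_join 5000 1000 6000 rfl (allFrom_join 4000 1000 5000 rfl (allFrom_join 3000 1000 4000 rfl (allFrom_join 2000 1000 3000 rfl (allFrom_join 1000 1000 2000 rfl point_7_0 point_7_1) point_7_2) point_7_3) point_7_4) point_7_5) point_7_6) point_7_7) point_7_8) point_7_9) point_7_10) point_7_11) point_7_12) point_7_13) point_7_14) point_7_15) point_7_16) point_7_17) point_7_18) point_7_19) point_7_20) point_7_21) point_7_22) point_7_23) point_7_24) point_7_25) point_7_26) point_7_27) point_7_28) point_7_29) point_7_30) point_7_31) point_7_32) point_7_33) point_7_34)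

theorem node_src : ∀ j, 1 ≤ j → j < steps.nNode → steps.nodeSrc j < j := fun j h1 h2 =>
  Nat.ble_eq.mp ((allFrom_iff _ _ _).1 src_all j h1 (by change j < 9 at h2; omega))

/-- The sum of the suborbit lengths. -/
theorem idx_sum : ((List.range cover.nLive).map cover.idx).sum = 8835156 := by
  decide +kernel

theorem valid : cover.Valid steps rules tab 39916800 where
  nP_pos := by decide
  live_zero := ⟨by decide, by decide +kernel⟩
  u_ok l hl := allFrom_all u_all hl
  tr_ok c hc := allFrom_all tr_all hc
  stab_ok m a hm ha := allFrom_all (allFrom_all stab_all hm : allFrom _ 0 (nStab m) = true) ha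
  point_ok m c hm hc := by
    change m < 8 at hm
    interval_cases m
    · exact allFrom_all point_0 hc
    · exact allFrom_all point_1 hc
    · exact allFrom_all point_2 hc
    · exact allFrom_all point_3 hc
    · exact allFrom_all point_4 hc
    · exact allFrom_all point_5 hc
    · exact allFrom_all point_6 hc
    · exact allFrom_all point_7 hc
  chain_gen m l a hm hl ha := by
    change m < 8 at hm
    interval_cases m
    · exact allFrom_all (allFrom_all gen_0 hl : _) ha
    · exact allFrom_all (allFrom_all gen_1 hl : _) ha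
    · exact allFrom_all (allFrom_all gen_2 hl : _) ha
    · exact allFrom_all (allFrom_all gen_3 hl : _) ha
    · exact allFrom_all (allFrom_all gen_4 hl : _) ha
    · exact allFrom_all (allFrom_all gen_5 hl : _) ha
    · exact allFrom_all (allFrom_all gen_6 hl : _) ha
    · exact allFrom_all (allFrom_all gen_7 hl : _) ha
  chain_pt m l j hm hl hj := by
    change m < 8 at hm
    interval_cases m
    · exact allFrom_all (allFrom_all pt_0 hl : _) hj
    · exact allFrom_all (allFrom_all pt_1 hl : _) hj
    · exact allFrom_all (allFrom_all pt_2 hl : _) hj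
    · exact allFrom_all (allFrom_all pt_3 hl : _) hj
    · exact allFrom_all (allFrom_all pt_4 hl : _) hj
    · exact allFrom_all (allFrom_all pt_5 hl : _) hj
    · exact allFrom_all (allFrom_all pt_6 hl : _) hj
    · exact allFrom_all (allFrom_all pt_7 hl : _) hj
  chain_mem m l a hm hl ha := by
    refine ⟨chOff (m * 3 + l) + a, ?_, rfl⟩
    have h := Nat.ble_eq.mp (allFrom_all (allFrom_all bounds_all hm : allFrom _ 0 3 = true) hl)
    change a < chCnt (m * 3 + l) at ha
    change chOff (m * 3 + l) + chCnt (m * 3 + l) ≤ nStab m at h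
    change chOff (m * 3 + l) + a < nStab m
    omega
  idx_eq := by
    intro m hm
    change m < 8 at hm
    interval_cases m
    · decide +kernel
    · decide +kernel
    · decide +kernel
    · decide +kernel
    · decide +kernel
    · decide +kernel
    · decide +kernel
    · decide +kernel

end Cfsg.Agent.LyRec.Index
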