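import Cfsg.Agent.DCoset.Ly.ModelDefs
import Cfsg.Agent.LyRec.Index.Table

/-! The pairs of words that must act alike on the points of the model. -/

set_option autoImplicit false

namespace Cfsg.Agent.LyRec.Index

open Cfsg.Agent.DCoset Cfsg.Agent.CosetCert
open Cfsg.Agent.DCoset.Ly (goL)

/-- Two words act alike at a point. -/
noncomputable def sameAt (u v : List Nat) (p : Nat) : Bool :=
  Nat.beq (goL tab.act u p) (goL tab.act v p)

/-- The pairs of words to compare. -/
def relPairs : List (List Nat × List Nat) :=
  (List.range 9).map (fun i => ([i, i, i], [])) ++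
  (List.range 9).map (fun i => ([i, i + 9], [])) ++
  (List.range 9).map (fun i => ([i + 9, i], [])) ++
  [([0, 1, 0, 1, 0, 1, 0, 1], [])] ++
  (List.range 9).map (fun i => ([0, 1, 0, 1, i], [i, 0, 1, 0, 1])) ++
  (List.range 9).flatMap (fun i => ((List.range 9).filter (fun j => i != j)).map
    fun j => ([i, j, i, j], [0, 1, 0, 1])) ++
  (List.range 12).map (fun k => ([18 + k], extWord.getD k []))

/-- Everything checked at one point. -/
noncomputable def okPt (p : Nat) : Bool :=
  ((List.range 30).all fun g => Nat.blt (tab.act g p) 5040) &&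
    relPairs.all fun e => sameAt e.1 e.2 p

end Cfsg.Agent.LyRec.Index
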