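import Cfsg.Agent.DCoset.Join
import Cfsg.Agent.LyRec.Index.ModelDefs

/-! The relations of the double cover hold at the points from 0 to 1260. -/

set_option maxRecDepth 100000
set_option Elab.async false

namespace Cfsg.Agent.LyRec.Index

open Cfsg.Agent.DCoset Cfsg.Agent.CosetCert

theorem ok_0_0 : allFrom okPt 0 420 = true := by decide +kernel

theorem ok_0_1 : allFrom okPt 420 420 = true := by decide +kernel

theorem ok_0_2 : allFrom okPt 840 420 = true := by decide +kernel

end Cfsg.Agent.LyRec.Index
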