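import Cfsg.Agent.DCoset.PermModel
import Cfsg.Agent.LyRec.Index.ModelCheck0
import Cfsg.Agent.LyRec.Index.ModelCheck1
import Cfsg.Agent.LyRec.Index.ModelCheck2
import Cfsg.Agent.LyRec.Index.ModelCheck3
import Cfsg.Agent.LyRec.LiftHom
import Cfsg.Agent.LyRec.Index.ModelChain

/-!
The double cover as a model for the index certificate: thirty letters (the nine lifts, their inverses
and twelve words in these) acting on 5040 points, three of which form a base.
-/

set_option autoImplicit false
set_option maxRecDepth 100000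
set_option Elab.async false

namespace Cfsg.Agent.LyRec.Index

open Cfsg.Agent.DCoset Cfsg.Agent.CosetCert Cfsg.Agent.LyLocal
open Cfsg.Agent.DCoset.Ly (goL goL_eq)

theorem ok_all {p : Nat} (hp : p < 5040) : okPt p = true :=
  allFrom_all (n := 5040)
    (allFrom_join 4620 420 5040 rfl (allFrom_join 4200 420 4620 rfl (allFrom_join 3780 420 4200 rfl (allFrom_join 3360 420 3780 rfl (allFrom_join 2940 420 3360 rfl (allFrom_join 2520 420 2940 rfl (allFrom_join 2100 420 2520 rfl (allFrom_join 1680 420 2100 rfl (allFrom_join 1260 420 1680 rfl (allFrom_join 840 420 1260 rfl (allFrom_join 420 420 840 rfl ok_0_0 ok_0_1) ok_0_2) ok_1_0) ok_1_1) ok_1_2) ok_2_0) ok_2_1) ok_2_2) ok_3_0) ok_3_1) ok_3_2) hp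

theorem act_lt' {g : Nat} (hg : g < 30) {p : Nat} (hp : p < 5040) : tab.act g p < 5040 := by
  have h := ok_all hp
  rw [okPt, Bool.and_eq_true] at h
  exact Nat.ble_eq.mp (List.all_eq_true.1 h.1 g (List.mem_range.2 hg))

theorem same {u v : List Nat} (hm : (u, v) ∈ relPairs) {p : Nat} (hp : p < 5040) :
    goL tab.act u p = goL tab.act v p := by
  have h := ok_all hp
  rw [okPt, Bool.and_eq_true] at h
  exact Nat.eq_of_beq_eq_true (List.all_eq_true.1 h.2 _ hm)

theorem pair_inv : ∀ i : Fin 9, ([i.val, i.val + 9], ([] : List Nat)) ∈ relPairs ∧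
    ([i.val + 9, i.val], ([] : List Nat)) ∈ relPairs := by decide +kernel

theorem pair_cube : ∀ i : Fin 9, ([i.val, i.val, i.val], ([] : List Nat)) ∈ relPairs := by
  decide +kernel

theorem pair_comm : ∀ i : Fin 9, ([0, 1, 0, 1, i.val], [i.val, 0, 1, 0, 1]) ∈ relPairs := by
  decide +kernel

theorem pair_prod : ∀ i j : Fin 9, i ≠ j → ([i.val, j.val, i.val, j.val], [0, 1, 0, 1]) ∈ relPairs := by
  decide +kernel

theorem pair_ext : ∀ k : Fin 12, ([18 + k.val], extWord.getD k.val []) ∈ relPairs := by
  decide +kernel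

theorem pair_z : ([0, 1, 0, 1, 0, 1, 0, 1], ([] : List Nat)) ∈ relPairs := by decide +kernel

theorem extWord_lt : ∀ k : Fin 12, ∀ g ∈ extWord.getD k.val [], g < 18 := by decide +kernel

/-- A lift as a permutation. -/
noncomputable def letPerm (i : Fin 9) : Equiv.Perm (Fin 5040) where
  toFun p := ⟨tab.act i.val p.val, act_lt' (by omega) p.2⟩
  invFun p := ⟨tab.act (i.val + 9) p.val, act_lt' (by omega) p.2⟩
  left_inv p := Fin.ext (by
    have h := same (pair_inv i).1 p.2
    rw [goL_eq, goL_eq] at h
    exact h)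
  right_inv p := Fin.ext (by
    have h := same (pair_inv i).2 p.2
    rw [goL_eq, goL_eq] at h
    exact h)

/-- The element of the acting group of one of the eighteen letters. -/
noncomputable def letEl (g : Nat) : Equiv.Perm (Fin 5040) :=
  if g < 9 then (letPerm (Fin.ofNat 9 g))⁻¹ else letPerm (Fin.ofNat 9 (g - 9))

theorem letEl_apply {g : Nat} (hg : g < 18) (p : Fin 5040) :
    ((letEl g)⁻¹ p).val = tab.act g p.val := by
  rw [letEl]
  split_ifs with h
  · rw [inv_inv]
    show tab.act (Fin.ofNat 9 g).val p.val = _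
    rw [Fin.val_ofNat, Nat.mod_eq_of_lt h]
  · show tab.act ((Fin.ofNat 9 (g - 9)).val + 9) p.val = _
    rw [Fin.val_ofNat, Nat.mod_eq_of_lt (show g - 9 < 9 by omega), show g - 9 + 9 = g by omega]

/-- The element of a word in the eighteen letters. -/
noncomputable def wordEl (l : List Nat) : Equiv.Perm (Fin 5040) := (l.map letEl).prod

theorem wordEl_apply : ∀ (l : List Nat), (∀ g ∈ l, g < 18) → ∀ p : Fin 5040,
    ((wordEl l)⁻¹ p).val = goL tab.act l p.val
  | [], _, p => rfl
  | g :: l, hl, p => by
    rw [show wordEl (g :: l) = letEl g * wordEl l by simp [wordEl], mul_inv_rev,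
      Equiv.Perm.mul_apply, wordEl_apply l (fun x hx => hl x (List.mem_cons_of_mem _ hx)), goL_eq,
      goL_eq, List.foldl_cons, letEl_apply (hl g List.mem_cons_self)]

theorem wordEl_eq {u v : List Nat} (hu : ∀ g ∈ u, g < 18) (hv : ∀ g ∈ v, g < 18)
    (hm : (u, v) ∈ relPairs) : wordEl u = wordEl v :=
  inv_injective (Equiv.ext fun p => Fin.ext (by
    rw [wordEl_apply _ hu, wordEl_apply _ hv, same hm p.2]))

/-- The image of a lift. -/
noncomputable def eP (i : Fin 9) : Equiv.Perm (Fin 5040) := letEl i.val

variable [IsSimpleGroup P]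

theorem exists_rho : ∃ f : DD →* Equiv.Perm (Fin 5040),
    ∀ (i : Fin 9) (h : el (12 + i.val) ∈ DD), f ⟨el (12 + i.val), h⟩ = eP i := by
  have hz : ∀ g ∈ [0, 1, 0, 1], g < 18 := by decide
  have hw : ∀ w : List (Fin 9), (w.map eP).prod = wordEl (w.map Fin.val) := fun w => by
    rw [wordEl, List.map_map]; rfl
  have hl : ∀ w : List (Fin 9), ∀ g ∈ w.map Fin.val, g < 18 := fun w g hg => by
    obtain ⟨i, -, rfl⟩ := List.mem_map.1 hg; omega
  obtain ⟨f, -, -, hf⟩ := exists_hom_of_rels eP (wordEl [0, 1, 0, 1])
    (by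
      have h := wordEl_eq (fun g hg => by simp at hg; omega) (by simp) pair_z
      simpa [wordEl, mul_assoc] using h)
    (fun i => by
      have h := wordEl_eq (u := [0, 1, 0, 1, i.val]) (v := [i.val, 0, 1, 0, 1])
        (fun g hg => by simp at hg; omega) (fun g hg => by simp at hg; omega) (pair_comm i)
      simpa [Commute, SemiconjBy, wordEl, eP, mul_assoc] using h)
    (fun i => by
      have h := wordEl_eq (fun g hg => by simp at hg; omega) (by simp) (pair_cube i)
      simpa [wordEl, eP, pow_succ, mul_assoc] using h)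
    (fun i j hij => by
      have h := wordEl_eq (fun g hg => by simp at hg; omega) hz (pair_prod i j hij)
      simpa [wordEl, eP, pow_two, mul_assoc] using h)
  exact ⟨f, hf⟩

/-- The action of the double cover on the points. -/
noncomputable def rho : DD →* Equiv.Perm (Fin 5040) := exists_rho.choose

theorem lift_mem (i : Fin 9) : el (12 + i.val) ∈ DD := xl_eq i ▸ lifts.E_mem _

/-- A lift in the double cover. -/
noncomputable def dE (i : Fin 9) : DD := ⟨el (12 + i.val), lift_mem i⟩

theorem rho_dE (i : Fin 9) : rho (dE i) = eP i := exists_rho.choose_spec i (lift_mem i)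

/-- One of the eighteen letters in the double cover. -/
noncomputable def qBase (g : Nat) : DD :=
  if g < 9 then dE (Fin.ofNat 9 g) else (dE (Fin.ofNat 9 (g - 9)))⁻¹

/-- The letters in the double cover. -/
noncomputable def qL (g : Nat) : DD :=
  if g < 18 then qBase g else ((extWord.getD (g - 18) []).map qBase).prod

theorem rho_qBase {g : Nat} (hg : g < 18) : rho (qBase g) = letEl g := by
  rw [qBase]
  split_ifs with h
  · rw [rho_dE, eP, Fin.val_ofNat, Nat.mod_eq_of_lt h]
  · rw [map_inv, rho_dE, eP, letEl, letEl, if_neg h,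
      if_pos (show (Fin.ofNat 9 (g - 9)).val < 9 from (Fin.ofNat 9 (g - 9)).2), inv_inv,
      Fin.ofNat_val_eq_self]

theorem acts : Acts rho tab qL bpt where
  small := by norm_num
  act_eq g hg p := by
    change g < 30 at hg
    rw [qL]
    split_ifs with h
    · rw [rho_qBase h, letEl_apply h]
    · have hk : g - 18 < 12 := by omega
      have hl := extWord_lt ⟨g - 18, hk⟩
      rw [map_list_prod, List.map_map,
        List.map_congr_left (f := rho ∘ qBase) (g := letEl) fun x hx => rho_qBase (hl x hx), ← wordEl,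
        wordEl_apply _ hl]
      have e := same (pair_ext ⟨g - 18, hk⟩) p.2
      rw [goL_eq, List.foldl_cons, List.foldl_nil, show 18 + (g - 18) = g by omega] at e
      exact e
  act_lt := tab_act_lt
  base_eq := by decide +kernel

omit [IsSimpleGroup P] in
theorem qChain_gen : allFrom (fun l => allFrom (QModel.checkGen tab qChain l) 0 (qChain.nGen l)) 0 3 =
    true := by
  decide +kernel

omit [IsSimpleGroup P] in
theorem qChain_pt : allFrom (fun l => allFrom (QModel.checkPt tab qChain l) 0 (qChain.size l)) 0 3 =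
    true := by
  decide +kernel

omit [IsSimpleGroup P] in
theorem qChain_prod : ((List.range tab.k).map qChain.size).prod = 39916800 := by
  decide +kernel

theorem dd_finite : Finite DD := lifts.grp_finite five_le eleven_ne

theorem dd_card : Nat.card DD ≤ 39916800 := by
  rw [show Nat.card DD = Nat.card (lifts.grp) from rfl, lifts.card_grp five_le eleven_ne]
  have := two_mul_nat_card_alternatingGroup (α := Fin 11)
  rw [Nat.card_perm, Nat.card_fin, show Nat.factorial 11 = 39916800 by rfl] at this
  omega

theorem rho_faithful : ∀ a : DD, (∀ l, l < tab.k → (rho a)⁻¹ (bpt l) = bpt l) → a = 1 :=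
  have := dd_finite
  acts.faithful qChain dd_card qChain_prod
    (fun _ _ hl ha => allFrom_all (allFrom_all qChain_gen hl) ha)
    (fun _ _ hl hm => allFrom_all (allFrom_all qChain_pt hl) hm)

/-- The model. -/
noncomputable def model : QModel DD := acts.toQModel rho_faithful

theorem model_gens : Subgroup.closure {x | ∃ g, g < model.nL ∧ x = model.q g} = ⊤ := by
  rw [eq_top_iff]
  intro a _
  have key : (DD : Subgroup P) ≤
      (Subgroup.closure {x | ∃ g, g < model.nL ∧ x = model.q g}).map (Subgroup.subtype _) := by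
    show Subgroup.closure _ ≤ _
    rw [Subgroup.closure_le]
    rintro _ ⟨r, rfl⟩
    refine ⟨dE (restIdx r), Subgroup.subset_closure ⟨(restIdx r).val, ?_, ?_⟩, ?_⟩
    · show (restIdx r).val < 30
      omega
    · show dE _ = qL _
      rw [qL, if_pos (by omega), qBase, if_pos (restIdx r).2, Fin.ofNat_val_eq_self]
    · show el (12 + (restIdx r).val) = _
      rw [xl_eq, restOf_restIdx]
  obtain ⟨b, hb, hab⟩ := key a.2
  exact Subtype.ext hab ▸ hb

end Cfsg.Agent.LyRec.Index
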