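import Cfsg.Agent.DCoset.Steps
import Cfsg.Agent.LyRec.RelData
import Cfsg.Agent.LyRec.Alpha.Words
import Cfsg.Agent.LyRec.Index.Model
import Cfsg.Agent.LyRec.Index.RuleData

/-!
The rules and relators of the index certificate hold in every group with an image of the double cover
and an involution with the relations of the amalgam.
-/

set_option autoImplicit false
set_option maxRecDepth 100000

namespace Cfsg.Agent.LyRec.Index

open Cfsg.Agent.DCoset Cfsg.Agent.CosetCert Cfsg.Agent.LyLocal

/-- The letters of a packed word. -/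
def unpList : Nat → Nat → List Nat
  | 0, _ => []
  | n + 1, w => w % 256 :: unpList n (w / 256)

/-- The letters of a packed word. -/
def unp (w : Nat) : List Nat := unpList (w % 65536) (w / 65536)

theorem val_unp {M : Type*} [Monoid M] (lv : Nat → M) (w : Nat) :
    val lv w = ((unp w).map lv).prod := by
  have h : ∀ n v, valW lv n v = ((unpList n v).map lv).prod := by
    intro n
    induction n with
    | zero => intro v; simp [valW, unpList]
    | succ n ih => intro v; rw [valW, unpList, List.map_cons, List.prod_cons, ih]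
  exact h _ _

/-- The inverse of one of the eighteen letters. -/
def invLet (g : Nat) : Nat := if g < 9 then g + 9 else g - 9

/-- The inverse of a word in the eighteen letters. -/
def winv (w : List Nat) : List Nat := w.reverse.map invLet

/-- A word in the lifts as a word in the letters. -/
def asLet (w : List (Fin 9)) : List Nat := w.map Fin.val

/-- The three middle elements `a, b, c` with `x a x b x c = 1` read from relator row `r`. -/
def triple (r : Nat) : List Nat × List Nat × List Nat :=
  let k : Fin 2 := Fin.ofNat 2 (r / 6)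
  let g := asLet (relG 2 k)
  let h := asLet (relH 2 k)
  let y := asLet (relY 2 k)
  let s := if r / 3 % 2 = 0 then (g, h, winv y) else (y, winv h, winv g)
  if r % 3 = 0 then s else if r % 3 = 1 then (s.2.1, s.2.2, s.1) else (s.2.2, s.1, s.2.1)

theorem rule_shape : ∀ r : Fin 30,
    (r.val < 18 ∨ 24 ≤ r.val → rules.rS r.val = 0 ∧ rules.rD r.val = 0 ∧
      rules.rU r.val = rules.rV r.val ∧ tab.okWord (rules.rU r.val) = true) ∧
    (18 ≤ r.val ∧ r.val < 24 → rules.rS r.val = 1 ∧ rules.rD r.val = 1 ∧
      unp (rules.rU r.val) = [r.val] ∧ unp (rules.rV r.val) = [r.val + 6] ∧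
      tab.okWord (rules.rU r.val) = true ∧ tab.okWord (rules.rV r.val) = true) := by
  decide +kernel

theorem rel_shape : ∀ r : Fin 12, rules.relHd r.val = 1 ∧ rules.relLen r.val = 2 ∧
    rules.relT r.val 0 = 1 ∧ rules.relT r.val 1 = 1 ∧
    unp (rules.relW r.val 0) = (triple r.val).1 ∧ unp (rules.relW r.val 1) = (triple r.val).2.1 ∧
    unp (rules.relTl r.val) = winv (triple r.val).2.2 ∧ tab.okWord (rules.relTl r.val) = true ∧
    tab.okWord (rules.relW r.val 0) = true ∧ tab.okWord (rules.relW r.val 1) = true := by
  decide +kernel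

theorem triple_lt : ∀ r : Fin 12, (∀ g ∈ (triple r.val).1, g < 18) ∧
    (∀ g ∈ (triple r.val).2.1, g < 18) ∧ ∀ g ∈ (triple r.val).2.2, g < 18 := by
  decide +kernel

theorem ext_shape : ∀ k : Fin 3,
    extWord.getD k.val [] = asLet (Alpha.gen k) ∧
      extWord.getD (k.val + 3) [] = winv (asLet (Alpha.gen k)) ∧
      extWord.getD (k.val + 6) [] = asLet (Alpha.img 2 k) ∧
      extWord.getD (k.val + 9) [] = winv (asLet (Alpha.img 2 k)) := by
  decide +kernel

theorem asLet_lt (w : List (Fin 9)) : ∀ g ∈ asLet w, g < 18 := fun g hg => by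
  obtain ⟨i, -, rfl⟩ := List.mem_map.1 hg
  omega

section

variable [IsSimpleGroup P] {G : Type*} [Group G]

/-- The value of a word in the eighteen letters. -/
noncomputable def phi (ι : DD →* G) (w : List Nat) : G := ι (w.map qBase).prod

/-- The extra letters. -/
def tEl (x : G) (t : Nat) : G := if t = 1 then x else 1

theorem qBase_inv {g : Nat} (hg : g < 18) : qBase (invLet g) = (qBase g)⁻¹ := by
  rw [invLet]
  split_ifs with h
  · rw [qBase, qBase, if_neg (by omega), if_pos h, show g + 9 - 9 = g by omega]
  · rw [qBase, qBase, if_pos (by omega), if_neg h, inv_inv]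

theorem phi_winv (ι : DD →* G) : ∀ w : List Nat, (∀ g ∈ w, g < 18) →
    phi ι (winv w) = (phi ι w)⁻¹
  | [], _ => by simp [phi, winv]
  | g :: w, hl => by
    have ih := phi_winv ι w fun x hx => hl x (List.mem_cons_of_mem _ hx)
    simp only [phi, winv, List.reverse_cons, List.map_append, List.prod_append, map_mul,
      List.map_cons, List.map_nil, List.prod_cons, List.prod_nil, mul_one, mul_inv_rev] at ih ⊢
    rw [ih, qBase_inv (hl g List.mem_cons_self), map_inv]

theorem phi_letters (ι : DD →* G) (w : List Nat) (hl : ∀ g ∈ w, g < 18) :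
    ((w.map fun g => ι (qL g))).prod = phi ι w := by
  rw [phi, map_list_prod, List.map_map]
  exact congrArg List.prod (List.map_congr_left fun g hg => by
    show ι (qL g) = ι (qBase g)
    rw [qL, if_pos (hl g hg)])

omit [IsSimpleGroup P] in
/-- Reading a triple one step later. -/
theorem rot {x a b c : G} (h : x * a * x * b * x * c = 1) : x * b * x * c * x * a = 1 := by
  have e : x * b * x * c * x * a = (x * a)⁻¹ * (x * a * x * b * x * c) * (x * a) := by group
  rw [e, h, mul_one, inv_mul_cancel]

omit [IsSimpleGroup P] in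
/-- Closing a triple with the inverse of its last element. -/
theorem close_triple {x a b c : G} (h : x * a * x * b * x * c = 1) :
    x * (a * x * (b * x)) = c⁻¹ := by
  rw [eq_inv_iff_mul_eq_one]
  simpa [mul_assoc] using h

/-- Any image of the double cover with an involution satisfying the relations validates the rules. -/
theorem sound (ι : DD →* G) (x : G) (sq : x * x = 1)
    (conj : ∀ k, x * phi ι (asLet (Alpha.gen k)) * x = phi ι (asLet (Alpha.img 2 k)))
    (rel : ∀ r, x * phi ι (asLet (relG 2 r)) * x * phi ι (asLet (relH 2 r)) * x =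
      phi ι (asLet (relY 2 r))) :
    rules.Sound (model.toModel ι) (tEl x) where
  T_zero := if_neg (by norm_num)
  inv_eq τ hτ := by
    change τ < 2 at hτ
    have e : ∀ t : Fin 2, rules.invT t.val = t.val := by decide +kernel
    rw [e ⟨τ, hτ⟩]
    refine ⟨hτ, ?_⟩
    interval_cases τ <;> simp [tEl, sq]
  mul_eq σ τ hσ hτ _ := by
    change σ < 2 at hσ
    change τ < 2 at hτ
    have e : ∀ a b : Fin 2, rules.mulT a.val b.val = (a.val + b.val) % 2 + 1 := by decide +kernel
    rw [e ⟨σ, hσ⟩ ⟨τ, hτ⟩]
    refine ⟨by show _ < 2; dsimp only; omega, ?_⟩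
    interval_cases σ <;> interval_cases τ <;> simp [tEl, sq]
  rule_ok r hr := by
    change r < 30 at hr
    obtain ⟨h0, h1⟩ := rule_shape ⟨r, hr⟩
    by_cases hc : r < 18 ∨ 24 ≤ r
    · obtain ⟨e1, e2, e3, e4⟩ := h0 hc
      dsimp only at e1 e2 e3 e4
      rw [e1, e2, ← e3]
      exact ⟨by decide, by decide, e4, e4, by simp [tEl]⟩
    · obtain ⟨e1, e2, e3, e4, e5, e6⟩ := h1 ⟨by dsimp only; omega, by dsimp only; omega⟩
      dsimp only at e1 e2 e3 e4 e5 e6
      rw [e1, e2]
      refine ⟨by decide, by decide, e5, e6, ?_⟩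
      have hx : ∀ g, 18 ≤ g → g < 30 → (model.toModel ι).lv g = phi ι (extWord.getD (g - 18) []) :=
        fun g h h' => by
          show ι (qL g) = _
          rw [qL, if_neg (by omega)]
          rfl
      rw [val_unp, val_unp, e3, e4, List.map_cons, List.map_cons, List.map_nil,
        List.prod_singleton, List.prod_singleton, hx r (by omega) hr, hx _ (by omega) (by omega)]
      simp only [tEl, if_true]
      have key : ∀ u v : G, x * u * x = v → x * v = u * x := fun u v h => by
        rw [← h, ← mul_assoc, ← mul_assoc, sq, one_mul]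
      obtain ⟨k, hk | hk⟩ : ∃ k : Fin 3, r = 18 + k.val ∨ r = 21 + k.val := by
        by_cases hlt : r < 21
        · exact ⟨⟨r - 18, by omega⟩, Or.inl (by dsimp only; omega)⟩
        · exact ⟨⟨r - 21, by omega⟩, Or.inr (by dsimp only; omega)⟩
      all_goals obtain ⟨s1, s2, s3, s4⟩ := ext_shape k
      · rw [show r - 18 = k.val by omega, show r + 6 - 18 = k.val + 6 by omega, s1, s3]
        exact key _ _ (conj k)
      · rw [show r - 18 = k.val + 3 by omega, show r + 6 - 18 = k.val + 9 by omega, s2, s4,
          phi_winv ι _ (asLet_lt _), phi_winv ι _ (asLet_lt _)]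
        refine key _ _ (eq_inv_of_mul_eq_one_left ?_)
        rw [← conj k]
        simp only [mul_assoc]
        rw [← mul_assoc x x, sq, one_mul, inv_mul_cancel_left, sq]
  rel_ok r hr := by
    change r < 12 at hr
    obtain ⟨e1, e2, e3, e4, e5, e6, e7, e8, e9, e10⟩ := rel_shape ⟨r, hr⟩
    dsimp only at e1 e2 e3 e4 e5 e6 e7 e8 e9 e10
    rw [e1, e2]
    refine ⟨by decide, e8, fun m hm => ?_, ?_⟩
    · interval_cases m
      · rw [e3]; exact ⟨by decide, e9⟩
      · rw [e4]; exact ⟨by decide, e10⟩
    obtain ⟨l1, l2, l3⟩ := triple_lt ⟨r, hr⟩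
    dsimp only at l1 l2 l3
    rw [show List.range 2 = [0, 1] from rfl, List.map_cons, List.map_cons, List.map_nil,
      List.prod_cons, List.prod_cons, List.prod_nil, mul_one, e3, e4, val_unp, val_unp, val_unp,
      e5, e6, e7]
    have hl : ∀ w : List Nat, (∀ g ∈ w, g < 18) →
        (w.map (model.toModel ι).lv).prod = phi ι w := fun w hw' => phi_letters ι w hw'
    have hwi : ∀ g ∈ winv (triple r).2.2, g < 18 := fun g hg => by
      obtain ⟨a, ha, rfl⟩ := List.mem_map.1 hg
      have := l3 a (List.mem_reverse.1 ha)
      rw [invLet]; split_ifs <;> omega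
    rw [hl _ l1, hl _ l2, hl _ hwi, phi_winv ι _ l3]
    simp only [tEl, if_true]
    refine close_triple ?_
    -- the six readings of one relation
    have first : ∀ k, x * phi ι (asLet (relG 2 k)) * x * phi ι (asLet (relH 2 k)) * x *
        phi ι (winv (asLet (relY 2 k))) = 1 := fun k => by
      rw [phi_winv ι _ (asLet_lt _), rel k, mul_inv_cancel]
    have second : ∀ k, x * phi ι (asLet (relY 2 k)) * x * phi ι (winv (asLet (relH 2 k))) * x *
        phi ι (winv (asLet (relG 2 k))) = 1 := fun k => by
      rw [phi_winv ι _ (asLet_lt _), phi_winv ι _ (asLet_lt _), ← rel k]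
      have hxx : ∀ a : G, x * (x * a) = a := fun a => by rw [← mul_assoc, sq, one_mul]
      simp only [mul_assoc, hxx, sq, mul_inv_cancel, mul_one]
    unfold triple
    dsimp only
    by_cases hs : r / 3 % 2 = 0
    · rw [if_pos hs]
      split_ifs
      exacts [first _, rot (first _), rot (rot (first _))]
    · rw [if_neg hs]
      split_ifs
      exacts [second _, rot (second _), rot (rot (second _))]

end

end Cfsg.Agent.LyRec.Index
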