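import Cfsg.Agent.DCoset.Cover
import Cfsg.Agent.LyRec.StepsSeed
import Cfsg.Agent.LyRec.Amalgam
import Cfsg.Agent.LyRec.Index.Sound
import Cfsg.Agent.LyRec.Index.Cert

/-!
The subgroup generated by the listed words and by the extra involution times one word has index at most
8835156 in the amalgam.
-/

set_option autoImplicit false
set_option maxRecDepth 100000

namespace Cfsg.Agent.LyRec.Index

open Cfsg.Agent.DCoset Cfsg.Agent.CosetCert Cfsg.Agent.LyLocal

/-- The word that the extra involution is multiplied by. -/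
def vWord : List Nat :=
  [10, 2, 17, 1, 6, 14, 17, 4, 14, 17, 16, 4, 3, 9, 10, 2, 3, 13, 10, 15, 12, 10, 9, 2, 1, 8, 5]

/-- Pack a list of letters as a word. -/
def pkWord (l : List Nat) : Nat := l.foldr (fun x v => x + 256 * v) 0 * 65536 + l.length

theorem seed_shape : steps.fI 0 = 0 ∧ steps.fH 0 = tab.base ∧ steps.fT 0 = 1 ∧ steps.fJ 0 = 0 ∧
    tab.okWord (pkWord (winv vWord)) = true ∧ unp (pkWord (winv vWord)) = winv vWord ∧
    steps.fK 0 = tab.app tab.base (pkWord (winv vWord)) ∧ (∀ g ∈ vWord, g < 18) := by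
  decide +kernel

theorem in_lt : ∀ w ∈ inWords, ∀ g ∈ unp w, g < 18 := by
  decide +kernel

variable [IsSimpleGroup P] {G : Type*} [Group G]

/-- The index bound in any image of the double cover extended by such an involution. -/
theorem index_le (ι : DD →* G) (x : G) (sq : x * x = 1)
    (conj : ∀ k, x * phi ι (asLet (Alpha.gen k)) * x = phi ι (asLet (Alpha.img 2 k)))
    (rel : ∀ r, x * phi ι (asLet (relG 2 r)) * x * phi ι (asLet (relH 2 r)) * x =
      phi ι (asLet (relY 2 r)))
    (hgen : Subgroup.closure (Set.range ι ∪ {x}) = ⊤) (Hs : Subgroup G)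
    (hw : ∀ w ∈ inWords, phi ι (unp w) ∈ Hs) (hv : x * phi ι vWord ∈ Hs) :
    Hs.index ≠ 0 ∧ Hs.index ≤ 8835156 := by
  have := dd_finite
  have hL := sound ι x sq conj rel
  have hF : ∀ s, s < steps.len → steps.Holds rules (model.toModel ι) Hs (tEl x) s := by
    refine Steps.holds_of_seed (s₀ := 0) ?_ hL ?_ node_src (show 0 < 2 by norm_num) ?_
    · obtain ⟨eI, eH, eT, eJ, hok, hun, eK, hlt⟩ := seed_shape
      rw [Steps.Holds, eI, eH, eT, eJ, eK]
      refine ⟨(by norm_num : 1 < 2), 1, 1 * val (model.toModel ι).lv (pkWord (winv vWord)),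
        (model.toModel ι).one, (model.toModel ι).step_word _ hok (model.toModel ι).one, ?_⟩
      rw [Steps.rep_zero, one_mul, val_unp, hun]
      have e : ((winv vWord).map (model.toModel ι).lv).prod = (phi ι vWord)⁻¹ := by
        rw [← phi_winv ι _ hlt]
        refine phi_letters ι _ fun g hg => ?_
        obtain ⟨a, ha, rfl⟩ := List.mem_map.1 hg
        have := hlt a (List.mem_reverse.1 ha)
        rw [invLet]; split_ifs <;> omega
      rw [e]
      simpa [tEl] using hv
    · intro s hs hk
      have h := steps_ok s hs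
      have hs0 : s ≠ 0 := by
        rintro rfl
        exact absurd hk (by decide +kernel)
      unfold okStep at h
      rw [show Nat.beq s 0 = false by
        cases hb : Nat.beq s 0
        · rfl
        · exact absurd (Nat.eq_of_beq_eq_true hb) hs0] at h
      change gate _ _ = true at h
      rw [gate_eq, Bool.and_eq_true] at h
      have h2 := h.2
      rw [show kind s = 1 from hk] at h2
      have hm : steps.argW s ∈ inWords := List.contains_iff_mem.1 h2
      rw [val_unp]
      have e := phi_letters ι _ (in_lt _ hm)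
      rw [show ((unp (steps.argW s)).map (model.toModel ι).lv).prod = phi ι (unp (steps.argW s)) from e]
      exact hw _ hm
    · intro s hs hs0
      have h := steps_ok s hs
      unfold okStep at h
      rw [show Nat.beq s 0 = false by
        cases hb : Nat.beq s 0
        · rfl
        · exact absurd (Nat.eq_of_beq_eq_true hb) hs0] at h
      change gate _ _ = true at h
      rw [gate_eq, Bool.and_eq_true] at h
      exact h.1
  have hg : Subgroup.closure (Set.range ι ∪ {y | ∃ t, t < rules.nT ∧ y = tEl x t}) = ⊤ := by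
    rw [eq_top_iff, ← hgen]
    refine Subgroup.closure_mono (Set.union_subset_union_right _ ?_)
    rintro y rfl
    exact ⟨1, by show 1 < 2; norm_num, by simp [tEl]⟩
  have h := Cover.index_le_sub (P := model) ι (tEl x) Hs dd_card model_gens hg hL valid hF
  rw [idx_sum] at h
  exact h

theorem phi_asLet (ι : DD →* G) (w : List (Fin 9)) : phi ι (asLet w) = (w.map fun i => ι (dE i)).prod := by
  rw [phi, asLet, map_list_prod, List.map_map, List.map_map]
  exact congrArg List.prod (List.map_congr_left fun i _ => by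
    show ι (qBase i.val) = ι (dE i)
    rw [qBase, if_pos i.2, Fin.ofNat_val_eq_self])

omit [IsSimpleGroup P] in
theorem am_rel {r : FreeGroup (Fin 10)} (h : r ∈ amRels) : PresentedGroup.mk amRels r = 1 :=
  PresentedGroup.one_of_mem h

omit [IsSimpleGroup P] in
theorem mk_aW (w : List (Fin 9)) : PresentedGroup.mk amRels (aW w) = (w.map amE).prod := by
  rw [aW, map_list_prod, List.map_map]
  rfl

/-- The double cover maps into the amalgam, lift to lift, and the amalgam is generated by it and the
extra involution. -/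
theorem exists_am : ∃ ι : DD →* Am, (∀ i, ι (dE i) = amE i) ∧
    Subgroup.closure (Set.range ι ∪ {amX}) = ⊤ ∧
    (∀ k, amX * phi ι (asLet (Alpha.gen k)) * amX = phi ι (asLet (Alpha.img 2 k))) ∧
    (∀ r, amX * phi ι (asLet (relG 2 r)) * amX * phi ι (asLet (relH 2 r)) * amX =
      phi ι (asLet (relY 2 r))) := by
  let z : Am := ([0, 1, 0, 1].map amE).prod
  have hz : PresentedGroup.mk amRels aT = z := mk_aW _
  have hE : ∀ i, PresentedGroup.mk amRels (aE i) = amE i := fun i => rfl
  have hX : PresentedGroup.mk amRels aX = amX := rfl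
  obtain ⟨ι, hr, -, he⟩ := exists_hom_of_rels amE z
    (by
      have h := am_rel (Or.inl (Or.inl (Or.inr (Or.inl rfl))))
      rwa [map_mul, hz] at h)
    (fun i => by
      have h := am_rel (Or.inl (Or.inl (Or.inl (Or.inr ⟨i, rfl⟩))))
      simp only [map_mul, map_inv, hz, hE] at h
      show z * amE i = amE i * z
      rw [mul_inv_eq_one, mul_inv_eq_iff_eq_mul] at h
      exact h)
    (fun i => by
      have h := am_rel (Or.inl (Or.inl (Or.inl (Or.inl (Or.inl ⟨i, rfl⟩)))))
      simpa only [map_pow, hE] using h)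
    (fun i j hij => by
      have h := am_rel (Or.inl (Or.inl (Or.inl (Or.inl (Or.inr ⟨i, j, hij, rfl⟩)))))
      simp only [map_mul, map_inv, map_pow, hz, hE] at h
      exact mul_inv_eq_one.1 h)
  have he' : ∀ i, ι (dE i) = amE i := fun i => he i (lift_mem i)
  have hp : ∀ w, phi ι (asLet w) = (w.map amE).prod := fun w => by
    rw [phi_asLet]
    simp only [he']
  refine ⟨ι, he', ?_, fun k => ?_, fun r => ?_⟩
  · rw [eq_top_iff, ← PresentedGroup.closure_range_of amRels, Subgroup.closure_le]
    rintro _ ⟨i, rfl⟩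
    refine Fin.lastCases ?_ (fun j => ?_) i
    · exact Subgroup.subset_closure (Or.inr rfl)
    · exact Subgroup.subset_closure (Or.inl ⟨dE j, he' j⟩)
  · have h := am_rel (Or.inl (Or.inr ⟨k, rfl⟩))
    simp only [map_mul, map_inv, hX, mk_aW] at h
    rw [hp, hp]
    exact mul_inv_eq_one.1 h
  · have h := am_rel (Or.inr ⟨r, rfl⟩)
    simp only [map_mul, map_inv, hX, mk_aW] at h
    rw [hp, hp, hp]
    exact mul_inv_eq_one.1 h

/-- A bound on one subgroup bounds the amalgam. -/
theorem am_bound (ι : DD →* Am)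
    (hgen : Subgroup.closure (Set.range ι ∪ {amX}) = ⊤)
    (conj : ∀ k, amX * phi ι (asLet (Alpha.gen k)) * amX = phi ι (asLet (Alpha.img 2 k)))
    (rel : ∀ r, amX * phi ι (asLet (relG 2 r)) * amX * phi ι (asLet (relH 2 r)) * amX =
      phi ι (asLet (relY 2 r)))
    (Hs : Subgroup Am) (hw : ∀ w ∈ inWords, phi ι (unp w) ∈ Hs) (hv : amX * phi ι vWord ∈ Hs)
    [Finite Hs] {n : ℕ} (hn : Nat.card Hs ≤ n) :
    Finite Am ∧ Nat.card Am ≤ n * 8835156 := by
  obtain ⟨h0, hle⟩ := index_le ι amX amX_sq conj rel hgen Hs hw hv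
  have hc : Nat.card Am = Nat.card Hs * Hs.index := (Subgroup.card_mul_index Hs).symm
  have hpos : Nat.card Am ≠ 0 := by
    rw [hc]
    exact Nat.mul_ne_zero Nat.card_pos.ne' h0
  exact ⟨Nat.finite_of_card_ne_zero hpos, hc ▸ Nat.mul_le_mul hn hle⟩

end Cfsg.Agent.LyRec.Index
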