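import Cfsg.Agent.LyRec.Index.StepData0
import Cfsg.Agent.LyRec.Index.StepData1

/-! Generated by tools/dcoset/emit.py: the derivation. -/

set_option Elab.async false

namespace Cfsg.Agent.LyRec.Index

open Cfsg.Agent.DCoset Cfsg.Agent.CosetCert

/-- The derivation. -/
noncomputable def steps : Steps where
  nNode := 9
  nodeSrc := nodeSrc
  nodeW := nodeWS.get
  nodeT := nodeT
  len := 57873
  kind := kind
  argA := argA
  argB := argB
  argW := argWS.get
  fI := fI
  fH := getN 48 fHS
  fT := fT
  fJ := fJ
  fK := getN 48 fKS

/-- The words of the elements put into the subgroup. -/
def inWords : List Nat := [15213961266568738184446347169164737460265799609688511000994374469482774293745651208473714843051274847999255229236223998419872740457714102160340281189292983191887035760709, 201644348246082904167448773720094489581488492906171156528418188930948231281694096151670923997354571607579969562411713318975183692893224624890459883105681471, 231471781904834321973011844537238399493787662791024311947090989319440783999170552618218799088710829892869582647181818129629719367871887014951604100323555308954845251]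

/-- Step `0` is known in advance; the others are justified, and elements put into the subgroup are listed. -/
noncomputable def okStep (s : Nat) : Bool :=
  Bool.rec (motive := fun _ => Bool)
    (gate (Steps.check steps rules tab s)
      (Bool.rec (motive := fun _ => Bool) true (inWords.contains (argWS.get s)) (Nat.beq (kind s) 1)))
    true (Nat.beq s 0)

end Cfsg.Agent.LyRec.Index
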