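import Cfsg.Agent.LyRec.Index.CoverDefs

/-! Generated by tools/dcoset/emit.py: forests and transversal. -/

set_option Elab.async false
set_option maxRecDepth 100000

namespace Cfsg.Agent.LyRec.Index

open Cfsg.Agent.DCoset Cfsg.Agent.CosetCert

theorem point_7_27 : allFrom (Cover.checkPoint cover steps rules tab 7) 27000 1000 = true := by
  decide +kernel

theorem point_7_28 : allFrom (Cover.checkPoint cover steps rules tab 7) 28000 1000 = true := by
  decide +kernel

theorem point_7_29 : allFrom (Cover.checkPoint cover steps rules tab 7) 29000 1000 = true := by
  decide +kernel

theorem point_7_30 : allFrom (Cover.checkPoint cover steps rules tab 7) 30000 1000 = true := by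
  decide +kernel

theorem point_7_31 : allFrom (Cover.checkPoint cover steps rules tab 7) 31000 1000 = true := by
  decide +kernel

theorem point_7_32 : allFrom (Cover.checkPoint cover steps rules tab 7) 32000 1000 = true := by
  decide +kernel

theorem point_7_33 : allFrom (Cover.checkPoint cover steps rules tab 7) 33000 1000 = true := by
  decide +kernel

theorem point_7_34 : allFrom (Cover.checkPoint cover steps rules tab 7) 34000 650 = true := by
  decide +kernel


end Cfsg.Agent.LyRec.Index
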