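import Cfsg.Agent.LyRec.Index.CoverDefs

/-! Generated by tools/dcoset/emit.py: forests and transversal. -/

set_option Elab.async false
set_option maxRecDepth 100000

namespace Cfsg.Agent.LyRec.Index

open Cfsg.Agent.DCoset Cfsg.Agent.CosetCert

theorem tr_all_54 : allFrom (Cover.checkTr cover tab) 18900 350 = true := by
  decide +kernel

theorem tr_all_55 : allFrom (Cover.checkTr cover tab) 19250 350 = true := by
  decide +kernel

theorem tr_all_56 : allFrom (Cover.checkTr cover tab) 19600 350 = true := by
  decide +kernel

theorem tr_all_57 : allFrom (Cover.checkTr cover tab) 19950 350 = true := by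
  decide +kernel

theorem tr_all_58 : allFrom (Cover.checkTr cover tab) 20300 350 = true := by
  decide +kernel

theorem tr_all_59 : allFrom (Cover.checkTr cover tab) 20650 350 = true := by
  decide +kernel

theorem tr_all_60 : allFrom (Cover.checkTr cover tab) 21000 350 = true := by
  decide +kernel

theorem tr_all_61 : allFrom (Cover.checkTr cover tab) 21350 350 = true := by
  decide +kernel

theorem tr_all_62 : allFrom (Cover.checkTr cover tab) 21700 350 = true := by
  decide +kernel


end Cfsg.Agent.LyRec.Index
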