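import Cfsg.Agent.LyRec.Index.StepDefs
import Cfsg.Agent.LyRec.Index.CoverData0
import Cfsg.Agent.LyRec.Index.CoverData1

/-! Generated by tools/dcoset/emit.py: the cover. -/

set_option Elab.async false

namespace Cfsg.Agent.LyRec.Index

open Cfsg.Agent.DCoset Cfsg.Agent.CosetCert

/-- The chain of node `m`. -/
noncomputable def chainOf (m : Nat) : QModel.Chain where
  nGen l := chCnt (Nat.add (Nat.mul m 3) l)
  gen l a := stabWS.get (Nat.add (stabOff m) (Nat.add (chOff (Nat.add (Nat.mul m 3) l)) a))
  size l := chSize (Nat.add (Nat.mul m 3) l)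
  pt l j := chPt (Nat.add (chPtOffS.get (Nat.add (Nat.mul m 3) l)) j)
  par l j := chPar (Nat.add (chPtOffS.get (Nat.add (Nat.mul m 3) l)) j)
  via l j := chVia (Nat.add (chPtOffS.get (Nat.add (Nat.mul m 3) l)) j)
  pos l p := chPos (Nat.add (Nat.mul (Nat.add (Nat.mul m 3) l) 5040) p)

/-- The closed list of double cosets. -/
noncomputable def cover : Cover where
  nLive := 8
  live := live
  liveIdx := liveIdx
  nP := 34650
  tr := trS.get
  schD c g := schD (Nat.add (Nat.mul c 30) g)
  schU c g := uTabS.get (schUI (Nat.add (Nat.mul c 30) g))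
  nU := 6
  uW := uWS.get
  ruleOf l t := ruleOf (Nat.add (Nat.mul l 2) t)
  nStab := nStab
  stabF m a := stabF (Nat.add (stabOff m) a)
  stabW m a := stabWS.get (Nat.add (stabOff m) a)
  par m c := par (Nat.add (Nat.mul m 34650) c)
  via m c := via (Nat.add (Nat.mul m 34650) c)
  uFor m c := uTabS.get (uForI (Nat.add (Nat.mul m 34650) c))
  rank m c := rank (Nat.add (Nat.mul m 34650) c)
  rootF m c t := rootF (Nat.add (Nat.mul (Nat.add (Nat.mul m 34650) c) 2) t)
  chain := chainOf
  idx := idxS.get

end Cfsg.Agent.LyRec.Index
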